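import Cfsg.Agent.Lib.Known.EvenInvol.Kill
import Cfsg.Agent.Lib.Known.LacedInvol.Cascade

/-!
# Reduction to orthogonal cascades, both root lengths

Every involution is conjugate into the subgroup of one of finitely many cascades.
-/

set_option autoImplicit false
set_option synthInstance.maxSize 4000

namespace CfsgLib.Chev.EvenInvol

open Cfsg.Lie CfsgLib.Chev.LacedInvol

universe v

variable {D : ChevalleyDatum} {co : ℕ → ℕ → ℤ} {F : Type v} [Field F]

/-- A Weyl element carrying a fundamental root of `J` to `θ` and the positive roots of `J`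
orthogonal to it into a smaller Levi subsystem centralised by `x_θ` in characteristic two. -/
structure Move2 (D : ChevalleyDatum) (co : ℕ → ℕ → ℤ) (J : List ℕ) (a θ : ℕ) (J' w : List ℕ) :
    Prop where
  word : ∀ i ∈ w, i ∈ J ∧ i < D.rank
  image : act D w (D.simple a) = θ
  sub : ∀ i ∈ J', i ∈ J
  top : PosIn D co (inL J) θ
  orth : ∀ s < D.nroots, PosIn D co (inL J) s → s ≠ D.simple a → D.cartan a s = 0 →
    PosIn D co (inL J') (act D w s)
  cent : ∀ s < D.nroots, InSub D co (inL J') s → s ≠ θ ∧ s ≠ D.neg θ ∧ EvenTerms D θ s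

/-- A certificate for the reduction to the cascades `Ks`. -/
structure Casc2 (D : ChevalleyDatum) (co : ℕ → ℕ → ℤ) (Ks : List ℕ → List (List ℕ))
    (st : List (List ℕ)) : Prop where
  full : List.range D.rank ∈ st
  nil : Ks [] ≠ []
  step : ∀ J ∈ st, ∀ a ∈ J, a < D.rank → ∃ θ J' w, Move2 D co J a θ J' w ∧
    (∀ K' ∈ Ks J', θ :: K' ∈ Ks J) ∧ (J' = [] ∨ J' ∈ st) ∧ J'.length < J.length
  ne : ∀ J ∈ st, Ks J ≠ []

variable (hF : Facts D co) (hC : CommF.{v} D) (hE : Even D) [CharP F 2]
include hF hC hE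

omit hE in
/-- A fundamental coordinate can be made nonzero. -/
theorem exists_simple2 (J : Set ℕ) : ∀ r, ∀ g ∈ rootClosure D F (PosIn D co J), g * g = 1 → g ≠ 1 →
    g ∈ rootClosure D F (r ≤ ·) → g ∉ rootClosure D F (r + 1 ≤ ·) →
    ∃ x ∈ rootClosure D F (InSub D co J), x * g * x⁻¹ ∈ rootClosure D F (PosIn D co J) ∧
      ∃ i < D.rank, i ∈ J ∧
        x * g * x⁻¹ ∉ rootClosure D F (fun s => PosIn D co J s ∧ s ≠ D.simple i) := by
  intro r
  induction r using Nat.strong_induction_on with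
  | _ r ih =>
    intro g hg hg2 h1 hge hnot
    by_cases hall : ∀ i < D.rank, i ∈ J →
        g ∈ rootClosure D F (fun s => PosIn D co J s ∧ s ≠ D.simple i)
    swap
    · push Not at hall
      obtain ⟨i, hi, hiJ, hn⟩ := hall
      exact ⟨1, Subgroup.one_mem _, by simpa using hg, i, hi, hiJ, by simpa using hn⟩
    obtain ⟨i, hiJ, hg', r', hr', hnot'⟩ := descend hF hC J hg h1 hall hge hnot
    set n := nS D F i with hn
    set g' := n * g * n⁻¹ with hg'def
    have h1' : g' ≠ 1 := fun e => h1 (by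
      rw [show g = n⁻¹ * g' * n by rw [hg'def]; group, e]; group)
    have hg2' : g' * g' = 1 := by
      rw [hg'def, show n * g * n⁻¹ * (n * g * n⁻¹) = n * (g * g) * n⁻¹ by group, hg2]; group
    obtain ⟨r'', hr''N, -, hge'', hnot''⟩ :=
      exists_first hF hC (fun s _ h => h.1) (posIn_closed hF hC J) hg' h1'
    have hlt : r'' < r := by
      by_contra hc
      exact hnot' (rootClosure_mono (fun s _ h => by omega) hge'')
    obtain ⟨x, hx, hxg, rest⟩ := ih r'' hlt g' hg' hg2' h1' hge'' hnot''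
    have hp := hF.simple_lt' i.isLt
    have hJ := (hF.inSub_simple (J := J) i.isLt).2 hiJ
    have hnmem : n ∈ rootClosure D F (InSub D co J) := hF.nU_mem
      (fun t => xU_mem_rootClosure (P := InSub D co J) hp hJ t)
      (fun t => xU_mem_rootClosure (P := InSub D co J) (hF.neg_lt hp) (hF.inSub_neg hp hJ) t) 1
    refine ⟨x * n, Subgroup.mul_mem _ hx hnmem, ?_⟩
    rw [show x * n * g * (x * n)⁻¹ = x * g' * x⁻¹ by rw [hg'def]; group]
    exact ⟨hxg, rest⟩

/-- Every involution of the unipotent group of `J` is conjugate into a cascade. -/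
theorem into_cascade2 {Ks : List ℕ → List (List ℕ)} {st : List (List ℕ)}
    (hK : Casc2 D co Ks st) :
    ∀ n, ∀ J : List ℕ, J.length ≤ n → (J = [] ∨ J ∈ st) →
      ∀ u ∈ rootClosure D F (PosIn D co (inL J)), u * u = 1 →
        ∃ g ∈ rootClosure D F (InSub D co (inL J)), ∃ K ∈ Ks J,
          g * u * g⁻¹ ∈ rootClosure D F (· ∈ K) := by
  intro n
  induction n using Nat.strong_induction_on with
  | _ n ih =>
    intro J hJn hJst u hu hu2
    by_cases h1 : u = 1
    · subst h1
      have hne : Ks J ≠ [] := by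
        rcases hJst with rfl | h
        exacts [hK.nil, hK.ne J h]
      obtain ⟨K, hKmem⟩ := List.exists_mem_of_ne_nil _ hne
      exact ⟨1, Subgroup.one_mem _, K, hKmem, by simp⟩
    obtain ⟨r, hrN, hrP, hge, hnot⟩ :=
      exists_first hF hC (fun s _ h => h.1) (posIn_closed hF hC (inL J)) hu h1
    obtain ⟨x, hx, hxu, a, ha, haJ, hne⟩ := exists_simple2 hF hC (inL J) r u hu hu2 h1 hge hnot
    have hJ0 : J ≠ [] := fun e => by simp [inL, e] at haJ
    obtain ⟨θ, J', w, hM, hθK, hJ', hlen⟩ := hK.step J (hJst.resolve_left hJ0) a haJ ha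
    set p := D.simple a with hp
    obtain ⟨hpp, hpN⟩ := hF.simple_lt a ha
    obtain ⟨v, hv, c, hc, hsplit⟩ := hF.closure_split hC (A := PosIn D co (inL J))
      (Q₁ := fun s => PosIn D co (inL J) s ∧ s ≠ p) (Q₂ := (· = p))
      (fun s _ h => (em (s = p)).elim Or.inr fun h' => Or.inl ⟨h, h'⟩)
      (by
        rintro i hi rfl j hj ⟨hjP, -⟩
        refine ⟨pos_ne_neg hF hi hpp hjP.1, fun hne c hc => ⟨posIn_term hF hC hi hj
          ⟨hpp, (hF.inSub_simple ha).2 haJ⟩ hjP hc, ?_⟩⟩
        have := (hF.commTerms_lt hi hj hpp hjP.1 hc).2.1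
        omega) hxu
    obtain ⟨t, rfl⟩ : ∃ t, c = xU D p t :=
      (hF.mem_rootSubgroup_iff hpN).1 (by rw [hF.rootSubgroup_eq hpN]; exact hc)
    have ht : t ≠ 0 := fun e => hne (by
      rw [hsplit, e, hF.xU_zero hpN, mul_one]; exact hv)
    have hx2 : (v * xU D p t) * (v * xU D p t) = 1 := by
      rw [← hsplit, show x * u * x⁻¹ * (x * u * x⁻¹) = x * (u * u) * x⁻¹ by group, hu2]; group
    obtain ⟨y, hy, v', hv', hkill⟩ := kill2 hF hC hE (inL J) ha haJ ht D.nroots 0 (by simp) v
      (rootClosure_mono (fun s _ h => ⟨h.1, h.2, Or.inr (Nat.zero_le _)⟩) hv) hx2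
    -- move by the Weyl element
    obtain ⟨m, hm, hact⟩ := exists_act (F := F) hF (J := J) w hM.word
    obtain ⟨hθN, cθ, hcθ, hmp⟩ := hact p hpN
    rw [show act D w p = θ from hM.image] at hθN hmp
    set v'' := m * v' * m⁻¹ with hv''def
    have hv'' : v'' ∈ rootClosure D F (PosIn D co (inL J')) := by
      refine conj_closure (fun z hz => ?_) hv'
      obtain ⟨s, b, hs, ⟨hsP, hsne, hs0⟩, rfl⟩ := hz
      obtain ⟨hs', cs, -, hms⟩ := hact s hs
      rw [hms]
      exact xU_mem_rootClosure hs' (hM.orth s hs hsP hsne hs0) _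
    -- the commuting part
    have hcomm : ∀ b : F, ∀ z ∈ rootClosure D F (InSub D co (inL J')), Commute (xU D θ b) z := by
      intro b z hz
      induction hz using Subgroup.closure_induction with
      | mem z hz =>
        obtain ⟨s, d, hs, hsP, rfl⟩ := hz
        obtain ⟨h1, h2, h3⟩ := hM.cent s hs hsP
        exact commute_even hF hC hθN hs h1 h2 h3 b d
      | one => exact Commute.one_right _
      | mul _ _ _ _ h h' => exact h.mul_right h'
      | inv _ _ h => exact h.inv_right
    set X := xU D θ (cθ * t) with hX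
    have hXc : Commute X v'' := hcomm _ _ (rootClosure_mono (fun s _ h => h.2) hv'')
    have hu' : m * (y * (v * xU D p t) * y⁻¹) * m⁻¹ = v'' * X := by
      rw [hkill, hv''def, hX, ← hmp, ← hp]; group
    have hv2 : v'' * v'' = 1 := by
      have h2 : (v'' * X) * (v'' * X) = 1 := by
        rw [← hu', show m * (y * (v * xU D p t) * y⁻¹) * m⁻¹ * (m * (y * (v * xU D p t) * y⁻¹) * m⁻¹)
          = m * (y * ((v * xU D p t) * (v * xU D p t)) * y⁻¹) * m⁻¹ by group, hx2]
        group
      rwa [show v'' * X * (v'' * X) = v'' * (X * v'') * X by group, hXc.eq,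
        show v'' * (v'' * X) * X = v'' * v'' * (X * X) by group, xU_self hF hθN, mul_one] at h2
    obtain ⟨g, hg, K', hK', hgv⟩ := ih (n - 1) (by
      have := List.length_pos_iff.2 hJ0; omega) J' (by omega) hJ' v'' hv'' hv2
    have hsub : ∀ s < D.nroots, InSub D co (inL J') s → InSub D co (inL J) s :=
      fun s _ h j hj hjJ => h j hj fun h' => hjJ (hM.sub j h')
    refine ⟨g * m * y * x, Subgroup.mul_mem _ (Subgroup.mul_mem _ (Subgroup.mul_mem _
      (rootClosure_mono hsub hg) hm) hy) hx, θ :: K', hθK K' hK', ?_⟩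
    have e : g * m * y * x * u * (g * m * y * x)⁻¹ = (g * v'' * g⁻¹) * X := by
      rw [show g * m * y * x * u * (g * m * y * x)⁻¹ =
        g * (m * (y * (x * u * x⁻¹) * y⁻¹) * m⁻¹) * g⁻¹ by group, hsplit, hu',
        show g * (v'' * X) * g⁻¹ = g * v'' * g⁻¹ * (g * X * g⁻¹) by group,
        ← (hcomm _ g hg).eq, mul_inv_cancel_right]
    rw [e]
    refine Subgroup.mul_mem _ (rootClosure_mono (fun s hs h => List.mem_cons_of_mem _ h) hgv) ?_
    exact xU_mem_rootClosure (P := (· ∈ θ :: K')) hθN (by simp) _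

end CfsgLib.Chev.EvenInvol
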