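import Cfsg.Agent.Lib.Known.EvenInvol.Cascade
import Cfsg.Agent.Lib.Known.LacedInvol.Check

/-!
# The hypotheses of the reduction as checks on the tables, both root lengths
-/

set_option autoImplicit false
set_option synthInstance.maxSize 4000

namespace CfsgLib.Chev.EvenInvol

open Cfsg.Lie CfsgLib.Chev.Table CfsgLib.Chev.LacedInvol

/-- The commutator terms on the tables, for chains of length at most two. -/
def termsT (T : Tab) (r s : ℕ) : List (ℕ × ℤ × ℕ × ℕ) :=
  (((T.gen r s)[0]?).toList.map fun c => (c.1, c.2, 1, 1)) ++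
    (((T.gen r s)[1]?).toList.map fun c => (c.1, c.2, 2, 1)) ++
    (((T.gen s r)[1]?).toList.map fun c => (c.1, c.2, 1, 2))

/-- All terms of a pair are even. -/
def evenPairT (T : Tab) (r s : ℕ) : Bool := (termsT T r s).all fun c => decide (c.2.1 % 2 = 0)

/-- Root elements of a pair of roots commute in characteristic two. -/
def commT2 (T : Tab) (r s : ℕ) : Bool :=
  !Nat.beq s r && !Nat.beq s (T.neg r) && evenPairT T r s

/-- The conditions on the terms of the fundamental roots. -/
def evenT (T : Tab) : Bool :=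
  allBelow T.rank fun i => allBelow T.nroots fun s =>
    bif Nat.ble (T.nroots / 2) s && !Nat.beq s (T.smp i) then
      bif decide (T.aa i s < 0) then
        let k := T.refl i s
        let L := termsT T (T.smp i) s
        (L.any fun c => Nat.beq c.1 k && decide (c.2.1 % 2 = 1) && Nat.beq c.2.2.2 1) &&
        Nat.ble (L.countP fun c => Nat.beq c.1 k) 1 &&
        (L.all fun c => Nat.beq c.1 k || decide (c.2.1 % 2 = 0) || (T.aa i c.1 == 0)) &&
        evenPairT T s k
      else evenPairT T (T.smp i) s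
    else true

/-- The cascades attached to the states. -/
def ksOf (ks : List (List ℕ × List (List ℕ))) (J : List ℕ) : List (List ℕ) :=
  if J = [] then [[]] else (ks.lookup J).getD []

/-- The check of a move. -/
def move2T (T : Tab) (J : List ℕ) (m : MoveData) : Bool :=
  let θ := m.2.1
  let J' := m.2.2.1
  let w := m.2.2.2
  w.all (fun i => J.elem i && Nat.blt i T.rank) &&
  Nat.beq (actT T w (T.smp m.1)) θ &&
  J'.all (fun i => J.elem i) &&
  Nat.blt θ T.nroots && posInT T J θ &&
  allBelow T.nroots (fun s =>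
    (bif posInT T J s && !Nat.beq s (T.smp m.1) && (T.aa m.1 s == 0) then
      posInT T J' (actT T w s) else true) &&
    (bif inSubT T J' s then commT2 T θ s else true))

/-- The check of a certificate for the cascades. -/
def casc2T (T : Tab) (ks : List (List ℕ × List (List ℕ))) (st : List (List ℕ × List MoveData)) :
    Bool :=
  (st.map Prod.fst).elem (List.range T.rank) &&
  st.all fun e =>
    !(ksOf ks e.1).isEmpty &&
    allBelow T.rank (fun a => bif e.1.elem a then e.2.any (fun m => Nat.beq m.1 a) else true) &&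
    e.2.all fun m => move2T T e.1 m &&
      (ksOf ks m.2.2.1).all (fun K => (ksOf ks e.1).elem (m.2.1 :: K)) &&
      (m.2.2.1.isEmpty || (st.map Prod.fst).elem m.2.2.1) &&
      Nat.blt m.2.2.1.length e.1.length

section

variable {D : ChevalleyDatum} {T : Tab} (hF : Facts D T.co) (hA : T.chkArrays D = true)
  (hCh : T.chkChain D = true) (hS : ShortChains D)
include hF hA hCh hS

omit hF in
theorem termsT_eq {r s : ℕ} (hr : r < D.nroots) (hs : s < D.nroots) :
    D.commTerms r s = termsT T r s := by
  have h1 := hS.len_le r hr s hs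
  have h2 := hS.len_le s hs r hr
  have a3 : D.chainRoot r s 3 = none := chainRoot_none_of_len h1
  have b3 : D.chainRoot s r 3 = none := chainRoot_none_of_len h2
  simp only [ChevalleyDatum.commTerms, a3, b3, Option.bind_none]
  simp only [ChevalleyDatum.chainRoot, ChevalleyDatum.chainM, chainEntry_eq hA hCh hr hs,
    chainEntry_eq hA hCh hs hr, termsT]
  rcases (T.gen r s)[0]? with - | ⟨u, a⟩ <;> rcases h : (T.gen r s)[1]? with - | ⟨v, b⟩ <;>
    rcases h' : (T.gen s r)[1]? with - | ⟨w, c⟩ <;> simp [h, h']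

omit hF in
theorem evenPairT_spec {r s : ℕ} (hr : r < D.nroots) (hs : s < D.nroots)
    (h : evenPairT T r s = true) : EvenTerms D r s := by
  intro c hc
  rw [termsT_eq hA hCh hS hr hs] at hc
  simpa using List.all_eq_true.1 h c hc

omit hF in
theorem commT2_spec {r s : ℕ} (hr : r < D.nroots) (hs : s < D.nroots) (h : commT2 T r s = true) :
    s ≠ r ∧ s ≠ D.neg r ∧ EvenTerms D r s := by
  simp only [commT2, Bool.and_eq_true, Bool.not_eq_true'] at h
  obtain ⟨⟨h1, h2⟩, h3⟩ := h
  refine ⟨fun e => ?_, fun e => ?_, evenPairT_spec hA hCh hS hr hs h3⟩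
  · rw [e] at h1; simp at h1
  · rw [neg_eq hA hr] at e; rw [e] at h2; simp at h2

theorem evenT_spec (h : evenT T = true) : Even D := by
  have hn := nroots_eq hA
  have hl := rank_eq hA
  have row : ∀ i < D.rank, ∀ s < D.nroots, D.nroots / 2 ≤ s → s ≠ D.simple i →
      (bif decide (T.aa i s < 0) then
        ((termsT T (T.smp i) s).any fun c =>
          Nat.beq c.1 (T.refl i s) && decide (c.2.1 % 2 = 1) && Nat.beq c.2.2.2 1) &&
        Nat.ble ((termsT T (T.smp i) s).countP fun c => Nat.beq c.1 (T.refl i s)) 1 &&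
        ((termsT T (T.smp i) s).all fun c =>
          Nat.beq c.1 (T.refl i s) || decide (c.2.1 % 2 = 0) || (T.aa i c.1 == 0)) &&
        evenPairT T s (T.refl i s)
      else evenPairT T (T.smp i) s) = true := by
    intro i hi s hs hsp hne
    have h1 := allBelow_spec (allBelow_spec h i (hl ▸ hi)) s (hn ▸ hs)
    have e1 : Nat.ble (T.nroots / 2) s = true := Nat.ble_eq ▸ hn ▸ hsp
    have e2 : Nat.beq s (T.smp i) = false := Bool.eq_false_iff.2 fun e =>
      hne (by rw [Nat.eq_of_beq_eq_true e, simple_eq hA hi])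
    simpa [e1, e2] using h1
  refine ⟨fun i hi s hs hsp hneg => ?_, fun i hi s hs hsp hne hnn => ?_⟩
  · have hne : s ≠ D.simple i := fun e => by
      rw [e, hF.cartan_simple hi] at hneg; omega
    have h1 := row i hi s hs hsp hne
    rw [cartan_eq hA hi hs] at hneg
    rw [decide_eq_true hneg, cond_true] at h1
    simp only [Bool.and_eq_true, List.any_eq_true, List.all_eq_true, Nat.ble_eq] at h1
    obtain ⟨⟨⟨⟨⟨u, c, e, e'⟩, hx, hxp⟩, hcount⟩, hall⟩, hswap⟩ := h1
    simp only [Nat.beq_eq, decide_eq_true_eq] at hxp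
    obtain ⟨⟨hu, hc⟩, he⟩ := hxp
    subst hu he
    obtain ⟨hin1, hin⟩ := hF.simple_lt i hi
    rw [simple_eq hA hi] at hin
    have hk : T.refl i s < D.nroots := by
      rw [← reflect_eq hA hCh hi hs]; exact hF.refl_lt i hi s hs
    obtain ⟨l₁, l₂, hl12⟩ := List.append_of_mem hx
    refine ⟨⟨l₁, c, e, l₂, ?_, hc, fun x hx' => ?_⟩, ?_⟩
    · rw [simple_eq hA hi, termsT_eq hA hCh hS hin hs, hl12, reflect_eq hA hCh hi hs]
    · have hmem : x ∈ termsT T (T.smp i) s := by
        rw [hl12]
        rcases List.mem_append.1 hx' with h' | h'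
        · exact List.mem_append_left _ h'
        · exact List.mem_append_right _ (List.mem_cons_of_mem _ h')
      have hxne : Nat.beq x.1 (T.refl i s) = false := by
        rw [Bool.eq_false_iff]
        intro hxe
        rw [hl12] at hcount
        simp only [List.countP_append, List.countP_cons, Nat.beq_refl, if_true] at hcount
        have : 0 < (l₁ ++ l₂).countP (fun c => Nat.beq c.1 (T.refl i s)) :=
          List.countP_pos_iff.2 ⟨x, hx', hxe⟩
        rw [List.countP_append] at this
        omega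
      have h2 := hall x hmem
      simp only [hxne, Bool.false_or, Bool.or_eq_true, decide_eq_true_eq, beq_iff_eq] at h2
      refine h2.imp_right fun h3 => ?_
      have hx1 : x.1 < D.nroots := by
        have hm : x ∈ D.commTerms (T.smp i) s := by rw [termsT_eq hA hCh hS hin hs]; exact hmem
        exact (hF.commTerms_wt hF.isWeight_omega hin hs hm).1
      rw [cartan_eq hA hi hx1]; exact h3
    · rw [reflect_eq hA hCh hi hs]
      exact evenPairT_spec hA hCh hS hs hk hswap
  · have h1 := row i hi s hs hsp hne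
    rw [cartan_eq hA hi hs] at hnn
    rw [decide_eq_false (not_lt.2 hnn), cond_false] at h1
    obtain ⟨-, hin⟩ := hF.simple_lt i hi
    rw [simple_eq hA hi] at hin ⊢
    exact evenPairT_spec hA hCh hS hin hs h1

theorem casc2T_spec {ks : List (List ℕ × List (List ℕ))} {st : List (List ℕ × List MoveData)}
    (h : casc2T T ks st = true) : Casc2 D T.co (ksOf ks) (st.map Prod.fst) := by
  have hn := nroots_eq hA
  have hl := rank_eq hA
  simp only [casc2T, Bool.and_eq_true, List.elem_eq_mem, decide_eq_true_eq, List.all_eq_true] at h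
  obtain ⟨hfull, hall⟩ := h
  refine ⟨hl ▸ hfull, by simp [ksOf], fun J hJ a haJ ha => ?_, fun J hJ => ?_⟩
  swap
  · obtain ⟨e, he, rfl⟩ := List.mem_map.1 hJ
    have := (hall e he).1.1
    rw [Bool.not_eq_true', List.isEmpty_eq_false_iff] at this
    exact this
  obtain ⟨e, he, rfl⟩ := List.mem_map.1 hJ
  obtain ⟨⟨-, hcov⟩, hmv⟩ := hall e he
  have h1 := allBelow_spec hcov a (hl ▸ ha)
  rw [decide_eq_true haJ, cond_true, List.any_eq_true] at h1
  obtain ⟨⟨b, θ, J', w⟩, hm, hb⟩ := h1
  rw [Nat.beq_eq] at hb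
  subst hb
  obtain ⟨⟨⟨hmove, hθK⟩, hJ'⟩, hlen⟩ := hmv _ hm
  simp only [Bool.or_eq_true, List.isEmpty_iff, decide_eq_true_eq] at hJ'
  rw [Nat.blt_eq] at hlen
  simp only [move2T, Bool.and_eq_true, List.all_eq_true, List.elem_eq_mem, decide_eq_true_eq,
    Nat.blt_eq, Nat.beq_eq] at hmove
  obtain ⟨⟨⟨⟨⟨hw, him⟩, hsub⟩, hθ⟩, htop⟩, hs⟩ := hmove
  have hw' : ∀ i ∈ w, i < D.rank := fun i hi => hl ▸ (hw i hi).2
  refine ⟨θ, J', w, ⟨fun i hi => ⟨(hw i hi).1, hw' i hi⟩, ?_, hsub, (posInT_iff hA).1 htop,
    fun s hsN hsP hsne hs0 => ?_, fun s hsN hsP => ?_⟩, hθK, hJ', hlen⟩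
  · rw [(actT_eq hF hA hCh hw' (hF.simple_lt' ha)).1, simple_eq hA ha, him]
  · have h2 := allBelow_spec hs s (hn ▸ hsN)
    simp only [Bool.and_eq_true] at h2
    rw [cartan_eq hA ha hsN] at hs0
    have h3 := h2.1
    rw [(posInT_iff hA).2 hsP, show (T.aa b s == 0) = true by simpa using hs0, Bool.and_true,
      show Nat.beq s (T.smp b) = false from Bool.eq_false_iff.2 fun e' =>
        hsne (by rw [Nat.eq_of_beq_eq_true e', simple_eq hA ha]),
      Bool.not_false, Bool.and_true, cond_true] at h3
    rw [(actT_eq hF hA hCh hw' hsN).1]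
    exact (posInT_iff hA).1 h3
  · have h2 := allBelow_spec hs s (hn ▸ hsN)
    simp only [Bool.and_eq_true] at h2
    have h3 := h2.2
    rw [(inSubT_iff hA).2 hsP, cond_true] at h3
    exact commT2_spec hA hCh hS (hn ▸ hθ) hsN h3

end

end CfsgLib.Chev.EvenInvol
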