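import Cfsg.Agent.Lib.Known.EvenInvol.Check
import Cfsg.Agent.Lib.Known.LacedInvol.Classes

/-!
# Involution classes from the cascades, both root lengths

The classes are separated by the ranks of `g - 1` on the whole Lie algebra and on an invariant
coordinate subspace.
-/

set_option autoImplicit false
set_option synthInstance.maxSize 4000

namespace CfsgLib.Chev.EvenInvol

open Cfsg.Lie CfsgLib.Chev.Table CfsgLib.Chev.LacedInvol
open scoped Matrix

universe v

/-- A step of the reduction of a product of commuting root elements. -/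
inductive Step where
  /-- a Weyl word onto the target -/
  | perm (w T : List ℕ)
  /-- conjugation by a product of root elements onto the target -/
  | letters (L T : List ℕ)

/-- The target of a step. -/
def Step.tgt : Step → List ℕ
  | .perm _ T => T
  | .letters _ T => T

/-- The certificate. -/
structure Cert where
  ks : List (List ℕ × List (List ℕ))
  moves : List (List ℕ × List MoveData)
  reps : List (List ℕ)
  steps : List (List ℕ × Step)
  mask : ℕ
  ranks : List (RankCert × RankCert)

/-- Pairwise commuting distinct roots. -/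
def pair2T (T : Tab) : List ℕ → Bool
  | [] => true
  | r :: L => Nat.blt r T.nroots && L.all (fun s => commT2 T r s) && pair2T T L

/-- The check of one step. -/
def stepT (T : Tab) (S : List ℕ) : Step → Bool
  | .perm w U => w.all (fun i => Nat.blt i T.rank) && pair2T T S && (S.map (actT T w)).isPerm U
  | .letters L U => wordEq T (L ++ S) (U ++ L)

/-- The check of the steps, the last one first. -/
def stepsOK (T : Tab) (reps : List (List ℕ)) : List (List ℕ × Step) → Bool
  | [] => true
  | e :: L => (reps.elem e.2.tgt || L.any fun f => f.1 == e.2.tgt) && stepT T e.1 e.2 &&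
      stepsOK T reps L

/-- The check of the cascades. -/
def leavesT (T : Tab) (C : Cert) : Bool :=
  (ksOf C.ks (List.range T.rank)).all fun K =>
    pair2T T K &&
    K.all (fun r => K.all fun s => (T.pr r s == bif Nat.beq r s then 2 else 0) &&
      (Nat.beq r s || commT2 T r s)) &&
    K.sublists.all fun S => S.isEmpty || C.reps.elem S || C.steps.any fun f => f.1 == S

/-- The mask is invariant under the root elements in characteristic two. -/
def maskT (T : Tab) (m : ℕ) : Bool :=
  allBelow T.nroots fun r => allBelow (T.rank + T.nroots) fun b =>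
    bif m.testBit b then
      (List.range 4).all fun k => (T.dpow r k b).all fun q => decide (q.2 % 2 = 0) || m.testBit q.1
    else true

/-- The column `b` of a word minus one on the mask. -/
def colI (T : Tab) (W : List ℕ) (m b : ℕ) : ℕ := bif m.testBit b then colM1 T W b else 0

/-- The default rank certificates. -/
def noRank : RankCert × RankCert := (⟨[], [], [], []⟩, ⟨[], [], [], []⟩)

/-- The check of the invariants. -/
def invT (T : Tab) (C : Cert) : Bool :=
  allBelow C.reps.length (fun k =>
    pair2T T (C.reps.getD k []) &&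
      (C.ranks.getD k noRank).1.ok T (C.reps.getD k []) &&
      (C.ranks.getD k noRank).2.okF (T.rank + T.nroots) (colI T (C.reps.getD k []) C.mask) &&
      !(C.ranks.getD k noRank).1.basis.isEmpty &&
      allBelow C.reps.length fun j => Nat.beq j k ||
        !(Nat.beq (C.ranks.getD j noRank).1.basis.length (C.ranks.getD k noRank).1.basis.length &&
          Nat.beq (C.ranks.getD j noRank).2.basis.length (C.ranks.getD k noRank).2.basis.length))

/-- The checked hypotheses. -/
structure Checked2 (D : ChevalleyDatum) (T : Tab) (C : Cert) : Prop where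
  facts : Facts D T.co
  arr : T.chkArrays D = true
  chain : T.chkChain D = true
  pairs : T.chkPairs = true
  short : ShortChains D
  even : evenT T = true
  casc : casc2T T C.ks C.moves = true
  leaves : leavesT T C = true
  steps : stepsOK T C.reps C.steps = true
  mask : maskT T C.mask = true
  inv : invT T C = true

section

variable {D : ChevalleyDatum} {T : Tab} {C : Cert} {F : Type v} [Field F]
variable (h : Checked2 D T C) (hC : CommF.{v} D) [CharP F 2]
include h hC

omit hC [CharP F 2] in
theorem pair2_spec {S : List ℕ} (hS : pair2T T S = true) :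
    (∀ s ∈ S, s < D.nroots) ∧
      S.Pairwise fun r s => s ≠ r ∧ s ≠ D.neg r ∧ EvenTerms D r s := by
  induction S with
  | nil => simp
  | cons r L ih =>
    simp only [pair2T, Bool.and_eq_true, List.all_eq_true, Nat.blt_eq] at hS
    obtain ⟨⟨hr, hL⟩, hp⟩ := hS
    obtain ⟨h1, h2⟩ := ih hp
    have hr' : r < D.nroots := by rw [nroots_eq h.arr]; exact hr
    refine ⟨fun s hs => ?_, List.pairwise_cons.2 ⟨fun s hs =>
      commT2_spec h.arr h.chain h.short hr' (h1 s hs) (hL s hs), h2⟩⟩
    rcases List.mem_cons.1 hs with rfl | hs'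
    exacts [hr', h1 s hs']

theorem pair2_commute {S : List ℕ} (hS : pair2T T S = true) :
    (S.map fun r => xU D r (1 : F)).Pairwise Commute := by
  obtain ⟨h1, h2⟩ := pair2_spec h hS
  rw [List.pairwise_map]
  exact h2.imp_of_mem fun ha hb ⟨e1, e2, e3⟩ =>
    commute_even h.facts hC (h1 _ ha) (h1 _ hb) e1 e2 e3 1 1

theorem P_sq2 {S : List ℕ} (hS : pair2T T S = true) : P D F S * P D F S = 1 := by
  induction S with
  | nil => simp [P]
  | cons r L ih =>
    obtain ⟨h1, h2⟩ := pair2_spec h hS
    rw [List.pairwise_cons] at h2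
    have hc : Commute (xU D r (1 : F)) (P D F L) := Commute.list_prod_right _ _ fun x hx => by
      obtain ⟨s, hs, rfl⟩ := List.mem_map.1 hx
      obtain ⟨e1, e2, e3⟩ := h2.1 s hs
      exact commute_even h.facts hC (h1 r (by simp)) (h1 s (List.mem_cons_of_mem _ hs)) e1 e2 e3 1 1
    have hP : P D F (r :: L) = xU D r (1 : F) * P D F L := by simp [P]
    simp only [pair2T, Bool.and_eq_true] at hS
    rw [hP, mul_assoc, ← mul_assoc (P D F L), ← hc.eq, mul_assoc, ih hS.2, mul_one,
      xU_self h.facts (h1 r (by simp))]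

omit hC in
/-- In characteristic two the fundamental monomial elements permute the root elements. -/
theorem exists_word2 (w : List ℕ) (hw : ∀ i ∈ w, i < D.rank) :
    ∃ g ∈ D.group F, ∀ s < D.nroots, ∀ t : F, g * xU D s t * g⁻¹ = xU D (act D w s) t := by
  induction w with
  | nil => exact ⟨1, Subgroup.one_mem _, fun s _ t => by simp [act]⟩
  | cons i w ih =>
    obtain ⟨g, hg, hact⟩ := ih fun j hj => hw j (List.mem_cons_of_mem _ hj)
    have hi := hw i (by simp)
    obtain ⟨η, h1, -, h3⟩ := h.facts.exists_eta (F := F) hi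
    have hn : nU D (D.simple i) (1 : F) ∈ D.group F := by
      rw [h.facts.group_eq]
      exact h.facts.nU_mem (fun u => xU_mem_rootClosure (P := fun _ => True) (h.facts.simple_lt' hi)
        trivial u) (fun u => xU_mem_rootClosure (P := fun _ => True)
        (h.facts.neg_lt (h.facts.simple_lt' hi)) trivial u) 1
    refine ⟨_ * g, Subgroup.mul_mem _ hn hg, fun s hs t => ?_⟩
    obtain ⟨-, hs'⟩ := actT_eq h.facts h.arr h.chain (w := w)
      (fun j hj => hw j (List.mem_cons_of_mem _ hj)) hs
    rw [show nU D (D.simple i) (1 : F) * g * xU D s t * (nU D (D.simple i) (1 : F) * g)⁻¹ =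
      nU D (D.simple i) (1 : F) * (g * xU D s t * g⁻¹) * (nU D (D.simple i) (1 : F))⁻¹ by group,
      hact s hs, h3 _ hs', mul_inv_cancel_right]
    show xU D (D.reflectRoot i (act D w s)) _ = xU D (D.reflectRoot i (act D w s)) t
    rcases h1 _ hs' with e | e <;> simp [e, CharTwo.neg_eq]

/-- Every key of the steps is conjugate to a representative. -/
theorem steps_to_rep : ∀ L : List (List ℕ × Step), stepsOK T C.reps L = true → ∀ e ∈ L,
    ∃ k < C.reps.length, Conj D F (P D F e.1) (P D F (C.reps.getD k [])) := by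
  have hn := nroots_eq h.arr
  intro L
  induction L with
  | nil => simp
  | cons e L ih =>
    intro hok
    simp only [stepsOK, Bool.and_eq_true, Bool.or_eq_true, List.elem_eq_mem, decide_eq_true_eq,
      List.any_eq_true, beq_iff_eq] at hok
    obtain ⟨⟨htgt, hst⟩, hrest⟩ := hok
    have hto : ∃ k < C.reps.length, Conj D F (P D F e.2.tgt) (P D F (C.reps.getD k [])) := by
      rcases htgt with hm | ⟨f, hf, hfe⟩
      · obtain ⟨k, hk, hke⟩ := List.mem_iff_getElem.1 hm
        exact ⟨k, hk, 1, Subgroup.one_mem _, by rw [List.getD_eq_getElem _ _ hk, hke]; group⟩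
      · rw [← hfe]; exact ih hrest f hf
    intro f hf
    rcases List.mem_cons.1 hf with rfl | hf
    swap
    · exact ih hrest f hf
    obtain ⟨k, hk, hconj⟩ := hto
    refine ⟨k, hk, Conj.trans ?_ hconj⟩
    obtain ⟨S, st⟩ := f
    cases st with
    | perm w U =>
      simp only [stepT, Bool.and_eq_true, List.all_eq_true, Nat.blt_eq, List.isPerm_iff] at hst
      obtain ⟨⟨hw, hSp⟩, hperm⟩ := hst
      obtain ⟨hSN, -⟩ := pair2_spec h hSp
      have hw' : ∀ i ∈ w, i < D.rank := fun i hi => by rw [rank_eq h.arr]; exact hw i hi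
      obtain ⟨g, hg, hact⟩ := exists_word2 (F := F) h w hw'
      refine ⟨g, hg, ?_⟩
      have e2 : (S.map (actT T w)).map (fun r => xU D r (1 : F)) =
          (S.map fun r => xU D r (1 : F)).map (MulAut.conj g) := by
        rw [List.map_map, List.map_map]
        refine List.map_congr_left fun s hs => ?_
        show xU D (actT T w s) (1 : F) = MulAut.conj g (xU D s 1)
        rw [MulAut.conj_apply, hact s (hSN s hs),
          (actT_eq h.facts h.arr h.chain hw' (hSN s hs)).1]
      show g * P D F S * g⁻¹ = P D F U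
      rw [← MulAut.conj_apply, P, map_list_prod, ← e2, P]
      refine List.Perm.prod_eq' (hperm.map _) ?_
      rw [e2, List.pairwise_map]
      exact (pair2_commute h hC hSp).imp fun hc => hc.map _
    | letters L' U =>
      have hword := wordEq_spec (F := F) h.arr h.chain h.pairs h.facts hst
      have hb := hst
      simp only [stepT, wordEq, Bool.and_eq_true, List.all_eq_true, Nat.blt_eq] at hb
      refine ⟨P D F L', P_mem h.facts fun l hl => ?_, ?_⟩
      · rw [hn]; exact hb.1.1 l (List.mem_append_left _ hl)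
      · show P D F L' * P D F S * (P D F L')⁻¹ = P D F U
        simp only [List.map_append, List.prod_append] at hword
        rw [show P D F L' * P D F S = P D F U * P D F L' from hword, mul_inv_cancel_right]

variable [Finite F]

/-- Scaling an element of a cascade subgroup. -/
theorem scale2 {K : List ℕ} (hK : pair2T T K = true)
    (hKp : ∀ r ∈ K, ∀ s ∈ K,
      (T.pr r s = if r = s then 2 else 0) ∧ (r ≠ s → commT2 T r s = true)) :
    ∀ L : List ℕ, L.Sublist K → ∀ g ∈ rootClosure D F (· ∈ L),
    ∃ S, S.Sublist L ∧ ∃ a ∈ D.group F, a * g * a⁻¹ = P D F S ∧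
      ∀ r ∈ K, r ∉ L → ∀ t : F, Commute a (xU D r t) := by
  have hn := nroots_eq h.arr
  obtain ⟨hKN, hKpw⟩ := pair2_spec h hK
  have hK2 : ∀ r ∈ K, ∀ s ∈ K, r ≠ s → s ≠ r ∧ s ≠ D.neg r ∧ EvenTerms D r s :=
    fun r hr s hs hne =>
      commT2_spec h.arr h.chain h.short (hKN r hr) (hKN s hs) ((hKp r hr s hs).2 hne)
  have hKc : ∀ r ∈ K, ∀ s ∈ K, r ≠ s → ∀ t u : F, Commute (xU D r t) (xU D s u) :=
    fun r hr s hs hne t u => by
      obtain ⟨e1, e2, e3⟩ := hK2 r hr s hs hne
      exact commute_even h.facts hC (hKN r hr) (hKN s hs) e1 e2 e3 t u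
  have hpr : ∀ r ∈ K, ∀ s ∈ K, prE D r s = if r = s then 2 else 0 := by
    intro r hr s hs
    rw [← (hKp r hr s hs).1, prE, Tab.pr, show Finset.range D.rank = (List.range T.rank).toFinset by
      rw [List.toFinset_range, rank_eq h.arr], List.sum_toFinset _ List.nodup_range]
    refine congrArg List.sum (List.map_congr_left fun i hi => ?_)
    have hi' : i < D.rank := by rw [rank_eq h.arr]; exact List.mem_range.1 hi
    rw [cor_eq h.arr (hKN r hr) hi', cartan_eq h.arr hi' (hKN s hs)]
  intro L
  induction L with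
  | nil =>
    intro _ g hg
    have : g = 1 := by
      rw [← Subgroup.mem_bot]
      refine (Subgroup.closure_le _).2 ?_ hg
      rintro x ⟨s, t, -, hs, rfl⟩
      simp at hs
    exact ⟨[], List.Sublist.slnil, 1, Subgroup.one_mem _, by simp [this, P],
      fun _ _ _ _ => Commute.one_left _⟩
  | cons r L ih =>
    intro hLK g hg
    have hrK : r ∈ K := hLK.subset (by simp)
    have hLK' : L.Sublist K := (List.sublist_cons_self r L).trans hLK
    have hrN := hKN r hrK
    have hrL : r ∉ L := by
      have hnd : (r :: L).Nodup := hLK.nodup (hKpw.imp fun e => e.1.symm)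
      exact (List.nodup_cons.1 hnd).1
    -- the products of the elements of the cascade commute
    have hcv : ∀ z ∈ rootClosure D F (· ∈ L), ∀ u : F, Commute (xU D r u) z := by
      intro z hz u
      induction hz using Subgroup.closure_induction with
      | mem y hy =>
        obtain ⟨s, w, hs, hsm, rfl⟩ := hy
        exact hKc r hrK s (hLK'.subset hsm) (fun e => hrL (e ▸ hsm)) _ _
      | one => exact Commute.one_right _
      | mul _ _ _ _ h1 h2 => exact h1.mul_right h2
      | inv _ _ h1 => exact h1.inv_right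
    have hsplit : ∃ v ∈ rootClosure D F (· ∈ L), ∃ t : F, g = v * xU D r t := by
      induction hg using Subgroup.closure_induction with
      | mem y hy =>
        obtain ⟨s, t, hs, hsm, rfl⟩ := hy
        rcases List.mem_cons.1 hsm with rfl | hsm
        · exact ⟨1, Subgroup.one_mem _, t, (one_mul _).symm⟩
        · exact ⟨_, xU_mem_rootClosure (P := (· ∈ L)) hs hsm t, 0,
            by rw [h.facts.xU_zero hrN, mul_one]⟩
      | one => exact ⟨1, Subgroup.one_mem _, 0, by rw [h.facts.xU_zero hrN, one_mul]⟩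
      | mul _ _ _ _ ha hb =>
        obtain ⟨va, hva, ta, rfl⟩ := ha
        obtain ⟨vb, hvb, tb, rfl⟩ := hb
        refine ⟨va * vb, Subgroup.mul_mem _ hva hvb, ta + tb, ?_⟩
        have hc : Commute (xU D r ta) vb := hcv _ hvb ta
        rw [show va * xU D r ta * (vb * xU D r tb) = va * (xU D r ta * vb) * xU D r tb by group,
          hc.eq, ← h.facts.xU_add hrN]
        group
      | inv _ _ ha =>
        obtain ⟨va, hva, ta, rfl⟩ := ha
        refine ⟨va⁻¹, Subgroup.inv_mem _ hva, -ta, ?_⟩
        have hc : Commute (xU D r ta) va := hcv _ hva ta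
        rw [mul_inv_rev, ← h.facts.xU_inv hrN]
        exact hc.inv_inv.eq
    obtain ⟨v, hv, t, rfl⟩ := hsplit
    obtain ⟨S, hS, a, ha, hav, hfix⟩ := ih hLK' v hv
    have hafix := hfix r hrK hrL t
    by_cases ht : t = 0
    · subst ht
      refine ⟨S, hS.trans (List.sublist_cons_self r L), a, ha, ?_, fun s hs hsL => hfix s hs
        fun h' => hsL (List.mem_cons_of_mem _ h')⟩
      rw [h.facts.xU_zero hrN, mul_one, hav]
    obtain ⟨l, hl⟩ := exists_sqrt (F := F) t⁻¹
    have hl0 : l ≠ 0 := fun e => ht (inv_eq_zero.1 (by rw [← hl, e, mul_zero]))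
    set z := hU D r ((Units.mk0 l hl0 : Fˣ) : F) with hz
    have hzmem : z ∈ D.group F :=
      h.facts.diagonal_le_group (h.facts.hU_mem_diagonal hrN (Units.ne_zero _))
    have hzfix : ∀ s ∈ K, r ≠ s → ∀ u : F, Commute z (xU D s u) := by
      intro s hs hne u
      have := h.facts.hU_conj_xU hrN (hKN s hs) (Units.mk0 l hl0) u
      rw [hpr r hrK s hs, if_neg hne, zpow_zero, Units.val_one, one_mul] at this
      show _ = _
      rwa [← mul_inv_eq_iff_eq_mul]
    have hzr : z * xU D r t * z⁻¹ = xU D r 1 := by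
      rw [hz, h.facts.hU_conj_xU hrN hrN, hpr r hrK r hrK, if_pos rfl, zpow_two, Units.val_mul,
        Units.val_mk0, hl, inv_mul_cancel₀ ht]
    have hSK : S.Sublist K := hS.trans hLK'
    have hzS : Commute z (P D F S) := Commute.list_prod_right _ _ fun y hy => by
      obtain ⟨s, hs, rfl⟩ := List.mem_map.1 hy
      exact hzfix s (hSK.subset hs) (fun e => hrL (e ▸ hS.subset hs)) _
    have hrS : Commute (P D F S) (xU D r (1 : F)) := Commute.list_prod_left _ _ fun y hy => by
      obtain ⟨s, hs, rfl⟩ := List.mem_map.1 hy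
      exact hKc s (hSK.subset hs) r hrK (fun e => hrL (e ▸ hS.subset hs)) _ _
    refine ⟨r :: S, hS.cons_cons r, z * a, Subgroup.mul_mem _ hzmem ha, ?_, fun s hs hsL u => ?_⟩
    · rw [show z * a * (v * xU D r t) * (z * a)⁻¹ =
        z * (a * v * a⁻¹ * (a * xU D r t * a⁻¹)) * z⁻¹ by group, hav, hafix.eq,
        mul_inv_cancel_right, show z * (P D F S * xU D r t) * z⁻¹ =
          z * P D F S * z⁻¹ * (z * xU D r t * z⁻¹) by group, hzS.eq, mul_inv_cancel_right, hzr,
        hrS.eq]
      simp [P]
    · exact (hzfix s hs (fun e => hsL (by simp [e])) u).mul_left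
        (hfix s hs (fun h' => hsL (List.mem_cons_of_mem _ h')) u)

/-- Every involution is conjugate to a representative. -/
theorem exists_rep2 {g : GL D.Idx F} (hg : g ∈ D.group F) (h2 : orderOf g = 2) :
    ∃ k < C.reps.length, Conj D F g (P D F (C.reps.getD k [])) := by
  have hF := h.facts
  have hE := evenT_spec hF h.arr h.chain h.short h.even
  haveI := Fintype.ofFinite F
  haveI := Fact.mk Nat.prime_two
  have hg2 : g * g = 1 := by rw [← sq, ← h2, pow_orderOf_eq_one]
  obtain ⟨Q, hQ⟩ := (BNSteinberg.split hF hC 2 (K := F)).exists_sylow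
  set x : ↥(D.group F) := ⟨g, hg⟩
  have hx : x ^ 2 = 1 := Subtype.ext (by rw [sq]; exact hg2)
  have hP : IsPGroup 2 ↥(Subgroup.zpowers x) := by
    rintro ⟨y, hy⟩
    obtain ⟨k, rfl⟩ := Subgroup.mem_zpowers_iff.1 hy
    refine ⟨1, Subtype.ext ?_⟩
    rw [SubmonoidClass.coe_pow, ← zpow_natCast, ← zpow_mul, mul_comm, zpow_mul, zpow_natCast,
      pow_one, hx, one_zpow]
    rfl
  obtain ⟨Sy, hSy⟩ := hP.exists_le_sylow
  obtain ⟨a, ha⟩ := MulAction.exists_smul_eq ↥(D.group F) Sy Q
  have hax : a * x * a⁻¹ ∈ (Q : Subgroup ↥(D.group F)) := by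
    rw [← ha, Sylow.coe_subgroup_smul]
    exact ⟨x, hSy (Subgroup.mem_zpowers x), rfl⟩
  rw [hQ] at hax
  have hau : (a : GL D.Idx F) * g * (a : GL D.Idx F)⁻¹ ∈ D.posUnipotent F :=
    Subgroup.mem_subgroupOf.1 hax
  have hrank := rank_eq h.arr
  have hCa := casc2T_spec hF h.arr h.chain h.short h.casc
  rw [hF.posUnipotent_eq] at hau
  obtain ⟨b, hb, K, hKm, hbK⟩ := into_cascade2 hF hC hE hCa _ (List.range D.rank) le_rfl
    (Or.inr hCa.full) _ (rootClosure_mono (fun s _ hs => ⟨hs, fun j hj hjJ =>
      absurd (List.mem_range.2 hj) hjJ⟩) hau)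
    (by rw [show (a : GL D.Idx F) * g * (a : GL D.Idx F)⁻¹ * ((a : GL D.Idx F) * g *
      (a : GL D.Idx F)⁻¹) = (a : GL D.Idx F) * (g * g) * (a : GL D.Idx F)⁻¹ by group, hg2]; group)
  have hl := List.all_eq_true.1 h.leaves K (hrank ▸ hKm)
  simp only [Bool.and_eq_true] at hl
  obtain ⟨⟨hKpair, hKorth⟩, hKsub⟩ := hl
  obtain ⟨S, hS, c, hc, hce, -⟩ := scale2 h hC hKpair (fun r hr s hs => by
    have h1 := List.all_eq_true.1 (List.all_eq_true.1 hKorth r hr) s hs
    simp only [Bool.and_eq_true, Bool.or_eq_true, beq_iff_eq, Nat.beq_eq] at h1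
    refine ⟨?_, fun hne => h1.2.resolve_left hne⟩
    rw [h1.1]
    by_cases hrs : r = s
    · subst hrs; simp
    · simp [hrs, show Nat.beq r s = false from
        Bool.eq_false_iff.2 fun e => hrs (Nat.eq_of_beq_eq_true e)])
    K (List.Sublist.refl _) _ hbK
  have hbmem : b ∈ D.group F := by rw [hF.group_eq]; exact rootClosure_mono (fun _ _ _ => trivial) hb
  have hS0 : S ≠ [] := by
    intro e
    rw [e] at hce
    simp only [P, List.map_nil, List.prod_nil] at hce
    simp only [← MulAut.conj_apply, map_eq_one_iff _ (MulEquiv.injective _)] at hce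
    rw [hce, orderOf_one] at h2
    omega
  have hcov := List.all_eq_true.1 hKsub S (List.mem_sublists.2 hS)
  simp only [Bool.or_eq_true, List.isEmpty_iff, List.elem_eq_mem, decide_eq_true_eq,
    List.any_eq_true, beq_iff_eq] at hcov
  have hSrep : ∃ k < C.reps.length, Conj D F (P D F S) (P D F (C.reps.getD k [])) := by
    rcases hcov with (h' | h') | ⟨f, hf, hfe⟩
    · exact absurd h' hS0
    · obtain ⟨k, hk, hke⟩ := List.mem_iff_getElem.1 h'
      exact ⟨k, hk, 1, Subgroup.one_mem _, by rw [List.getD_eq_getElem _ _ hk, hke]; group⟩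
    · rw [← hfe]; exact steps_to_rep h hC C.steps h.steps f hf
  obtain ⟨k, hk, hconj⟩ := hSrep
  exact ⟨k, hk, Conj.trans ⟨(a : GL D.Idx F), a.2, rfl⟩
    (Conj.trans ⟨b, hbmem, rfl⟩ (Conj.trans ⟨c, hc, hce⟩ hconj))⟩

omit hC [Finite F] in
/-- The matrices of group elements preserve the mask. -/
theorem mask_zero {g : GL D.Idx F} (hg : g ∈ D.group F) :
    ∀ x y : D.Idx, C.mask.testBit (enc D x) = false → C.mask.testBit (enc D y) = true →
      (g : Matrix D.Idx D.Idx F) x y = 0 := by
  have hn := nroots_eq h.arr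
  have hl := rank_eq h.arr
  have mul' : ∀ A B : Matrix D.Idx D.Idx F,
      (∀ x y : D.Idx, C.mask.testBit (enc D x) = false → C.mask.testBit (enc D y) = true →
        A x y = 0) →
      (∀ x y : D.Idx, C.mask.testBit (enc D x) = false → C.mask.testBit (enc D y) = true →
        B x y = 0) →
      ∀ x y : D.Idx, C.mask.testBit (enc D x) = false → C.mask.testBit (enc D y) = true →
        (A * B) x y = 0 := by
    intro A B hA hB x y hx hy
    rw [Matrix.mul_apply]
    refine Finset.sum_eq_zero fun z _ => ?_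
    cases hz : C.mask.testBit (enc D z)
    · rw [hB z y hz hy, mul_zero]
    · rw [hA x z hx hz, zero_mul]
  have gen : ∀ r < D.nroots, ∀ t : F, ∀ x y : D.Idx, C.mask.testBit (enc D x) = false →
      C.mask.testBit (enc D y) = true → ((xU D r t : GL D.Idx F) : Matrix D.Idx D.Idx F) x y = 0 := by
    intro r hr t x y hx hy
    rw [h.facts.xU_val' hr, xR, Matrix.sum_apply]
    refine Finset.sum_eq_zero fun k hk => ?_
    have h1 := allBelow_spec (allBelow_spec h.mask r (hn ▸ hr)) (enc D y)
      (by rw [← hl, ← hn]; exact enc_lt y)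
    rw [hy, cond_true, List.all_eq_true] at h1
    have h2 := List.all_eq_true.1 (h1 k (List.mem_range.2 (Finset.mem_range.1 hk)))
    rw [Matrix.smul_apply, RingHom.mapMatrix_apply, Matrix.map_apply,
      divPow_apply h.arr h.chain h.pairs hr k x y]
    have hev : sumAt (T.dpow r k (enc D y)) (enc D x) % 2 = 0 := by
      revert h2
      generalize T.dpow r k (enc D y) = Q
      intro h2
      induction Q with
      | nil => simp [sumAt]
      | cons q Q ih =>
        rw [sumAt_cons]
        have ih' := ih fun p hp => h2 p (List.mem_cons_of_mem _ hp)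
        have hq := h2 q (by simp)
        simp only [Bool.or_eq_true, decide_eq_true_eq] at hq
        split_ifs with hqx
        · rcases hq with hq | hq
          · omega
          · rw [hqx, hx] at hq; exact absurd hq (by simp)
        · omega
    simp only [Int.coe_castRingHom, cast_even hev, smul_zero]
  rw [h.facts.group_eq] at hg
  suffices H : (∀ x y : D.Idx, C.mask.testBit (enc D x) = false →
      C.mask.testBit (enc D y) = true → (g : Matrix D.Idx D.Idx F) x y = 0) ∧
      ∀ x y : D.Idx, C.mask.testBit (enc D x) = false →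
      C.mask.testBit (enc D y) = true → ((g⁻¹ : GL D.Idx F) : Matrix D.Idx D.Idx F) x y = 0 from H.1
  induction hg using Subgroup.closure_induction with
  | mem z hz =>
    obtain ⟨r, t, hr, -, rfl⟩ := hz
    exact ⟨gen r hr t, by rw [h.facts.xU_inv hr]; exact gen r hr (-t)⟩
  | one =>
    have : ∀ x y : D.Idx, C.mask.testBit (enc D x) = false → C.mask.testBit (enc D y) = true →
        ((1 : GL D.Idx F) : Matrix D.Idx D.Idx F) x y = 0 := fun x y hx hy => by
      rw [Units.val_one, Matrix.one_apply_ne fun e => by rw [e, hy] at hx; simp at hx]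
    exact ⟨this, by rw [inv_one]; exact this⟩
  | mul u v _ _ hu hv =>
    exact ⟨by rw [Units.val_mul]; exact mul' _ _ hu.1 hv.1,
      by rw [mul_inv_rev, Units.val_mul]; exact mul' _ _ hv.2 hu.2⟩
  | inv u _ hu => exact ⟨hu.2, by rw [inv_inv]; exact hu.1⟩

omit hC [Finite F] in
/-- The two ranks are invariant under conjugation. -/
theorem rank_conj {a y : GL D.Idx F} (ha : a ∈ D.group F) :
    let E : Matrix D.Idx D.Idx F :=
      Matrix.diagonal fun x => if C.mask.testBit (enc D x) then 1 else 0
    Matrix.rank (((a * y * a⁻¹ : GL D.Idx F) : Matrix D.Idx D.Idx F) - 1) =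
        Matrix.rank ((y : Matrix D.Idx D.Idx F) - 1) ∧
      Matrix.rank ((((a * y * a⁻¹ : GL D.Idx F) : Matrix D.Idx D.Idx F) - 1) * E) =
        Matrix.rank (((y : Matrix D.Idx D.Idx F) - 1) * E) := by
  intro E
  have conj : ∀ b z : GL D.Idx F, ((b * z * b⁻¹ : GL D.Idx F) : Matrix D.Idx D.Idx F) - 1 =
      (b : Matrix D.Idx D.Idx F) * ((z : Matrix D.Idx D.Idx F) - 1) *
        ((b⁻¹ : GL D.Idx F) : Matrix D.Idx D.Idx F) := fun b z => by
    rw [Matrix.mul_sub, Matrix.sub_mul, mul_one, ← Units.val_mul, ← Units.val_mul, ← Units.val_mul,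
      mul_inv_cancel, Units.val_one]
  have hdet : ∀ u : GL D.Idx F, IsUnit ((u : Matrix D.Idx D.Idx F).det) := fun u =>
    (Matrix.isUnit_iff_isUnit_det _).1 ⟨u, rfl⟩
  refine ⟨by rw [conj, Matrix.rank_mul_eq_left_of_isUnit_det _ _ (hdet _),
    Matrix.rank_mul_eq_right_of_isUnit_det _ _ (hdet _)], ?_⟩
  have le : ∀ b ∈ D.group F, ∀ z : GL D.Idx F,
      Matrix.rank ((((b * z * b⁻¹ : GL D.Idx F) : Matrix D.Idx D.Idx F) - 1) * E) ≤
        Matrix.rank (((z : Matrix D.Idx D.Idx F) - 1) * E) := by
    intro b hb z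
    have hE : E * (((b⁻¹ : GL D.Idx F) : Matrix D.Idx D.Idx F) * E) =
        ((b⁻¹ : GL D.Idx F) : Matrix D.Idx D.Idx F) * E := by
      ext p q
      rw [Matrix.diagonal_mul, Matrix.mul_diagonal]
      cases hp : C.mask.testBit (enc D p) <;> cases hq : C.mask.testBit (enc D q)
      all_goals simp only [Bool.false_eq_true, if_false, if_true, one_mul, zero_mul, mul_zero, mul_one]
      rw [mask_zero h (Subgroup.inv_mem _ hb) p q hp hq]
    rw [conj, mul_assoc, ← hE, ← mul_assoc, mul_assoc _ _ E]
    exact (Matrix.rank_mul_le_left _ _).trans (Matrix.rank_mul_le_right _ _)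
  refine le_antisymm (le a ha y) ?_
  have := le a⁻¹ (Subgroup.inv_mem _ ha) (a * y * a⁻¹)
  rwa [show a⁻¹ * (a * y * a⁻¹) * a⁻¹⁻¹ = y by group] at this

omit [Finite F] in
theorem rep_spec2 {k : ℕ} (hk : k < C.reps.length) :
    P D F (C.reps.getD k []) ∈ D.group F ∧ orderOf (P D F (C.reps.getD k [])) = 2 ∧
      Matrix.rank (((P D F (C.reps.getD k []) : GL D.Idx F) : Matrix D.Idx D.Idx F) - 1) =
        (C.ranks.getD k noRank).1.basis.length ∧
      Matrix.rank ((((P D F (C.reps.getD k []) : GL D.Idx F) : Matrix D.Idx D.Idx F) - 1) *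
          Matrix.diagonal (fun x => if C.mask.testBit (enc D x) then (1 : F) else 0)) =
        (C.ranks.getD k noRank).2.basis.length := by
  have hn := nroots_eq h.arr
  have hl := rank_eq h.arr
  have h1 := allBelow_spec h.inv k hk
  simp only [Bool.and_eq_true] at h1
  obtain ⟨⟨⟨⟨hp, hok⟩, hokI⟩, hne⟩, -⟩ := h1
  have hrank := rank_spec (F := F) h.arr h.chain h.pairs h.facts hok
  have hPN := (pair2_spec h hp).1
  refine ⟨P_mem h.facts hPN, ?_, hrank, ?_⟩
  · haveI := Fact.mk Nat.prime_two
    refine orderOf_eq_prime (by rw [sq]; exact P_sq2 h hC hp) fun e => ?_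
    rw [show (C.reps.getD k [] |>.map fun r => xU D r (1 : F)).prod = P D F (C.reps.getD k []) from rfl,
      e, Units.val_one, sub_self, Matrix.rank_zero] at hrank
    rw [Bool.not_eq_true', List.isEmpty_eq_false_iff] at hne
    exact hne (List.length_eq_zero_iff.1 hrank.symm)
  refine rank_of_okF _ (colI T (C.reps.getD k []) C.mask) (fun y => ?_) (by rw [hl, hn]; exact hokI)
  funext x
  show (_ * Matrix.diagonal _ : Matrix D.Idx D.Idx F) x y = _
  rw [Matrix.mul_diagonal]
  cases hy : C.mask.testBit (enc D y)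
  · simp [colI, hy, toF]
  · rw [if_pos rfl, mul_one]
    have hcol := congrFun (show (fun x => (((P D F (C.reps.getD k []) : GL D.Idx F) :
        Matrix D.Idx D.Idx F) - 1) x y) = toF D F (colI T (C.reps.getD k []) C.mask (enc D y)) by
      rw [colI, hy, cond_true, colM1, toF_xor, toF_two_pow,
        (wordR_col h.arr h.chain h.pairs _ hPN y).1, ← ones_val h.facts _ hPN]
      funext x
      simp [Matrix.mulVec_single_one, Matrix.col, CharTwo.sub_eq_add, Matrix.one_apply,
        Pi.single_apply, P]) x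
    exact hcol

omit [Finite F] in
/-- Distinct representatives are not conjugate. -/
theorem rep_inj2 {j k : ℕ} (hj : j < C.reps.length) (hk : k < C.reps.length)
    (hc : Conj D F (P D F (C.reps.getD j [])) (P D F (C.reps.getD k []))) : j = k := by
  obtain ⟨a, ha, e⟩ := hc
  obtain ⟨-, -, r1, r1'⟩ := rep_spec2 (F := F) h hC hj
  obtain ⟨-, -, r2, r2'⟩ := rep_spec2 (F := F) h hC hk
  obtain ⟨c1, c2⟩ := rank_conj (F := F) h (y := P D F (C.reps.getD j [])) ha
  rw [e, r1, r2] at c1
  rw [e, r1', r2'] at c2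
  have h1 := allBelow_spec h.inv k hk
  simp only [Bool.and_eq_true] at h1
  have h2 := allBelow_spec h1.2 j hj
  rw [c1, c2] at h2
  simpa using h2

/-- The representatives, their orders, completeness and pairwise non-conjugacy. -/
theorem classes_listed2 (L : List (Matrix D.Idx D.Idx F))
    (hL : L = C.reps.map fun S => ((P D F S : GL D.Idx F) : Matrix D.Idx D.Idx F)) :
    (∀ y : GL D.Idx F, ((y : GL D.Idx F) : Matrix D.Idx D.Idx F) ∈ L →
      y ∈ D.group F ∧ orderOf y = 2) ∧
    (∀ g ∈ D.group F, orderOf g = 2 → ∃ y ∈ D.group F,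
      ((y : GL D.Idx F) : Matrix D.Idx D.Idx F) ∈ L ∧ ∃ a ∈ D.group F, a * g * a⁻¹ = y) ∧
    (∀ y₁ ∈ D.group F, ∀ y₂ ∈ D.group F, ((y₁ : GL D.Idx F) : Matrix D.Idx D.Idx F) ∈ L →
      ((y₂ : GL D.Idx F) : Matrix D.Idx D.Idx F) ∈ L →
      (∃ a ∈ D.group F, a * y₁ * a⁻¹ = y₂) →
      ((y₁ : GL D.Idx F) : Matrix D.Idx D.Idx F) = ((y₂ : GL D.Idx F) : Matrix D.Idx D.Idx F)) := by
  have key : ∀ y : GL D.Idx F, ((y : GL D.Idx F) : Matrix D.Idx D.Idx F) ∈ L ↔
      ∃ k < C.reps.length, y = P D F (C.reps.getD k []) := by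
    intro y
    rw [hL, List.mem_map]
    constructor
    · rintro ⟨S, hS, e⟩
      obtain ⟨k, hk, rfl⟩ := List.mem_iff_getElem.1 hS
      exact ⟨k, hk, by rw [List.getD_eq_getElem _ _ hk]; exact (Units.ext e).symm⟩
    · rintro ⟨k, hk, rfl⟩
      exact ⟨_, List.getElem_mem hk, by rw [List.getD_eq_getElem _ _ hk]⟩
  refine ⟨fun y hy => ?_, fun g hg hg2 => ?_, fun y₁ _ y₂ _ h₁ h₂ hc => ?_⟩
  · obtain ⟨k, hk, rfl⟩ := (key y).1 hy
    exact ⟨(rep_spec2 (F := F) h hC hk).1, (rep_spec2 (F := F) h hC hk).2.1⟩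
  · obtain ⟨k, hk, a, ha, e⟩ := exists_rep2 (F := F) h hC hg hg2
    exact ⟨_, (rep_spec2 (F := F) h hC hk).1, (key _).2 ⟨k, hk, rfl⟩, a, ha, e⟩
  · obtain ⟨j, hj, rfl⟩ := (key y₁).1 h₁
    obtain ⟨k, hk, rfl⟩ := (key y₂).1 h₂
    rw [rep_inj2 (F := F) h hC hj hk hc]

end

end CfsgLib.Chev.EvenInvol
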