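import Cfsg.Agent.Lib.Known.EvenInvol.F4Data

/-!
# The checks for F4
-/

set_option autoImplicit false
set_option maxRecDepth 20000
set_option Elab.async false

namespace CfsgLib.Chev.EvenInvol.F4Invol

open Cfsg.Lie CfsgLib.Chev.Table

theorem chk_even : evenT DataF4.tab = true := by decide +kernel

theorem chk_casc : casc2T DataF4.tab cert.ks cert.moves = true := by decide +kernel

theorem chk_leaves : leavesT DataF4.tab cert = true := by decide +kernel

theorem chk_steps : stepsOK DataF4.tab cert.reps cert.steps = true := by decide +kernel

theorem chk_mask : maskT DataF4.tab cert.mask = true := by decide +kernel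

theorem chk_inv : invT DataF4.tab cert = true := by decide +kernel

/-- The checked certificate. -/
theorem checked : Checked2 chevF4 DataF4.tab cert :=
  ⟨DataF4.facts, DataF4.chk_arrays, DataF4.chk_chain, DataF4.chk_pairs, DataF4.short, chk_even,
    chk_casc, chk_leaves, chk_steps, chk_mask, chk_inv⟩

end CfsgLib.Chev.EvenInvol.F4Invol
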