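import Cfsg.Agent.Lib.Known.EvenInvol.MonomialFix

/-!
# Centralisers of the two mixed involution classes of F4 in characteristic two
-/

set_option autoImplicit false
set_option maxRecDepth 20000
set_option synthInstance.maxSize 4000
set_option Elab.async false

namespace CfsgLib.Chev.EvenInvol.F4Cent

open Cfsg.Lie CfsgLib.Chev.Table CfsgLib.Chev.LacedInvol

universe v

/-- The roots in `x_39 x_45` and in its conjugates by positive elements. -/
def Qs : List ℕ := [39, 40, 44, 45, 46, 47]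

/-- The roots of the correction terms. -/
def Tl : List ℕ := [40, 44, 46, 47]

/-- A short and a long root orthogonal to each other. -/
def mixB (Sh : List ℕ) (a b : ℕ) : Bool :=
  Sh.elem a && !Sh.elem b && (DataF4.tab.pr a b == 0)

theorem n48 : chevF4.nroots = 48 := by decide +kernel

theorem rank4 : chevF4.rank = 4 := by decide +kernel

theorem lt48 {r : ℕ} (h : r < 48 := by norm_num) : r < chevF4.nroots := n48.symm ▸ h

theorem h24 : chevF4.nroots / 2 = 24 := by rw [n48]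

theorem free_refl : freeReflT DataF4.tab = true := by decide +kernel

theorem free_row : freeRowT DataF4.tab = true := by decide +kernel

/-- The short roots in the numbering. -/
def Sh : List ℕ :=
  [3, 7, 8, 9, 10, 11, 12, 13, 14, 18, 19, 20, 27, 28, 29, 33, 34, 35, 36, 37, 38, 39, 40, 44]

theorem sh_closed : ∀ a < 48, ∀ i < 4, Sh.elem a = Sh.elem (DataF4.tab.refl i a) := by
  decide +kernel

theorem mix_closed : ∀ a < 48, ∀ b < 48, mixB Sh a b = true → ∀ i < 4,
    mixB Sh (DataF4.tab.refl i a) (DataF4.tab.refl i b) = true := by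
  decide +kernel

theorem facts_tables :
    Sh.elem 47 = false ∧ Sh.elem 44 = true ∧ mixB Sh 39 45 = true ∧
    (∀ a ∈ Qs, ∀ b ∈ Qs, mixB Sh a b = true → a = 39 ∧ b = 45) ∧
    freeB DataF4.tab 47 44 = true ∧
    Qs.Pairwise (fun a b => freeB DataF4.tab a b = true) ∧
    (∀ a ∈ Qs, ∀ b ∈ Qs, a = b ∨ commT2 DataF4.tab a b = true) := by
  decide +kernel

theorem cent_tables :
    (∀ s < 48, (24 ≤ s ∨ s ∈ [20, 22]) →
      (s = 47 ∨ commT2 DataF4.tab 47 s = true) ∧ (s = 44 ∨ commT2 DataF4.tab 44 s = true)) ∧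
    (∀ s < 48, ((24 ≤ s ∧ s ∉ [27, 25, 34, 26]) ∨ s ∈ [14, 23]) →
      (s = 39 ∨ commT2 DataF4.tab 39 s = true) ∧ (s = 45 ∨ commT2 DataF4.tab 45 s = true)) := by
  decide +kernel

theorem conj_tables :
    (∀ s < 48, 24 ≤ s → ∀ q ∈ [39, 45], s ≠ q →
      s ≠ DataF4.tab.neg q ∧ ∀ c ∈ termsT DataF4.tab q s, c.2.1 % 2 = 0 ∨ c.1 ∈ Tl) ∧
    (∀ s < 48, 24 ≤ s → ∀ q ∈ Tl, s ≠ q →
      q ≠ DataF4.tab.neg s ∧ ∀ c ∈ termsT DataF4.tab s q, c.2.1 % 2 = 0 ∨ c.1 ∈ Tl) ∧
    (∀ p ∈ [(39, 27, 40), (39, 34, 44), (45, 25, 46), (45, 26, 47)],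
      ∃ z ∈ [(-1 : ℤ), 1], termsT DataF4.tab p.1 p.2.1 = [(p.2.2, z, 1, 1)] ∧
        commT2 DataF4.tab p.2.1 p.2.2 = true) ∧
    (∀ p ∈ [(27, 45), (25, 39), (34, 45), (26, 39), (25, 40), (34, 40), (34, 46), (26, 40),
      (26, 44), (26, 46)], commT2 DataF4.tab p.1 p.2 = true) := by
  decide +kernel

theorem split_tables :
    (∀ i ∈ [33, 24], ∀ j < 48, 24 ≤ j → j ∉ [33, 24] → j ≠ DataF4.tab.neg i ∧
      ∀ c ∈ termsT DataF4.tab i j, c.1 ∉ [33, 24]) ∧
    (∀ p ∈ [(27, [33, 24]), (25, [27, 33, 24]), (34, [25, 27, 33, 24]), (26, [34, 25, 27, 33, 24])],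
      ∀ j < 48, 24 ≤ j → j ∉ p.2 → j ≠ p.1 → j ≠ DataF4.tab.neg p.1 ∧
        ∀ c ∈ termsT DataF4.tab p.1 j, c.1 ∉ p.1 :: p.2) := by
  decide +kernel

theorem word_tables :
    (∀ i < 4, i ≠ 1 → i ≠ 2 →
      0 < (([(47, 1), (44, 1)] : List (ℕ × ℤ)).map fun p => p.2 * DataF4.tab.aa i p.1).sum) ∧
    (∀ i < 4, (i = 1 ∨ i = 2) → DataF4.tab.aa i 47 = 0 ∧ DataF4.tab.aa i 44 = 0) ∧
    (∀ r < 24, (([(47, 1), (44, 1)] : List (ℕ × ℤ)).map fun p => p.2 * DataF4.tab.pr r p.1).sum ≤ 0) ∧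
    (∀ i < 4, i ≠ 0 → i ≠ 3 →
      0 < (([(39, 3), (45, 2)] : List (ℕ × ℤ)).map fun p => p.2 * DataF4.tab.aa i p.1).sum) ∧
    (∀ i < 4, (i = 0 ∨ i = 3) → DataF4.tab.aa i 39 = 0 ∧ DataF4.tab.aa i 45 = 0) ∧
    (∀ r < 24, (([(39, 3), (45, 2)] : List (ℕ × ℤ)).map fun p => p.2 * DataF4.tab.pr r p.1).sum ≤ 0) ∧
    (∀ r < 48, 24 ≤ r → (∀ m < 4, m ≠ 0 → m ≠ 3 → DataF4.tab.co r m = 0) → r ∈ [33, 24]) ∧
    (List.range 4).map DataF4.tab.smp = [33, 27, 25, 24] ∧
    (List.range 4).map (fun i => (DataF4.tab.aa i 47, DataF4.tab.aa i 44, DataF4.tab.aa i 39,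
      DataF4.tab.aa i 45)) = [(0, 1, 0, 0), (0, 0, -1, 2), (0, 0, 1, -1), (1, 0, 0, 0)] := by
  decide +kernel

section

local notation "hF" => DataF4.facts
local notation "hA" => DataF4.chk_arrays
local notation "hCh" => DataF4.chk_chain

theorem hC : CommF.{v} chevF4 := good_F4.comm

theorem even_of {r s : ℕ} (hr : r < 48) (hs : s < 48) (h : commT2 DataF4.tab r s = true) :
    s ≠ r ∧ s ≠ chevF4.neg r ∧ EvenTerms chevF4 r s :=
  commT2_spec hA hCh DataF4.short (lt48 hr) (lt48 hs) h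

theorem mem_sh (l : List (Fin chevF4.rank)) (a : Fin chevF4.nroots) :
    Sh.elem (sW chevF4 l a).val = Sh.elem a.val := by
  induction l with
  | nil => rfl
  | cons j l ih =>
    rw [sW_cons, Equiv.Perm.mul_apply, (hF).sP_val, reflect_eq hA hCh j.isLt (sW chevF4 l a).isLt,
      ← sh_closed _ (n48 ▸ (sW chevF4 l a).isLt) j.val (rank4 ▸ j.isLt), ih]

theorem mix_sW (l : List (Fin chevF4.rank)) (a b : Fin chevF4.nroots)
    (h : mixB Sh a.val b.val = true) :
    mixB Sh (sW chevF4 l a).val (sW chevF4 l b).val = true := by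
  induction l with
  | nil => exact h
  | cons j l ih =>
    rw [sW_cons, Equiv.Perm.mul_apply, Equiv.Perm.mul_apply, (hF).sP_val, (hF).sP_val,
      reflect_eq hA hCh j.isLt (sW chevF4 l a).isLt, reflect_eq hA hCh j.isLt (sW chevF4 l b).isLt]
    exact mix_closed _ (n48 ▸ (sW chevF4 l a).isLt) _ (n48 ▸ (sW chevF4 l b).isLt) ih j.val
      (rank4 ▸ j.isLt)

theorem qs_lt : ∀ q ∈ Qs, q < chevF4.nroots := fun q hq => by
  have : ∀ q ∈ Qs, q < 48 := by decide
  exact lt48 (this q hq)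

theorem qs_row : Qs.Pairwise fun p q => RowFix chevF4 p q :=
  facts_tables.2.2.2.2.2.1.imp_of_mem fun ha hb h =>
    rowFix_of_free hF hA hCh free_row (qs_lt _ ha) (qs_lt _ hb) h

theorem image_row (l : List (Fin chevF4.rank)) {L : List ℕ} (hL : ∀ q ∈ L, q < chevF4.nroots)
    (hp : L.Pairwise fun a b => freeB DataF4.tab a b = true) :
    (L.pmap (fun q h => (sW chevF4 l ⟨q, h⟩).val) hL).Pairwise fun p q => RowFix chevF4 p q := by
  refine List.Pairwise.pmap hp hL fun a ha b hb hab => ?_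
  exact rowFix_of_free hF hA hCh free_row (sW chevF4 l ⟨a, ha⟩).isLt (sW chevF4 l ⟨b, hb⟩).isLt
    (free_sW hF hA hCh free_refl l ⟨a, ha⟩ ⟨b, hb⟩ hab)

theorem image_lt (l : List (Fin chevF4.rank)) {L : List ℕ} (hL : ∀ q ∈ L, q < chevF4.nroots) :
    ∀ x ∈ L.pmap (fun q h => (sW chevF4 l ⟨q, h⟩).val) hL, x < chevF4.nroots := fun x hx => by
  obtain ⟨q, hq, rfl⟩ := List.mem_pmap.1 hx
  exact (sW chevF4 l _).isLt

variable {F : Type v} [Field F] [CharP F 2]

/-- The root elements. -/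
local notation "X" => xU chevF4 (F := F)

theorem comm_of {r s : ℕ} (hr : r < 48) (hs : s < 48) (h : r = s ∨ commT2 DataF4.tab r s = true)
    (a b : F) : Commute (X r a) (X s b) := by
  rcases h with rfl | h
  · show _ = _
    rw [(hF).xU_add (lt48 hr), (hF).xU_add (lt48 hr), add_comm]
  · obtain ⟨e1, e2, e3⟩ := even_of hr hs h
    exact commute_even hF hC (lt48 hr) (lt48 hs) e1 e2 e3 a b

theorem qs_comm : ∀ r ∈ Qs, ∀ s ∈ Qs, ∀ a b : F, Commute (X r a) (X s b) := fun r hr s hs a b =>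
  comm_of (n48 ▸ qs_lt r hr) (n48 ▸ qs_lt s hs) (facts_tables.2.2.2.2.2.2 r hr s hs) a b

/-- Diagonal conjugation of a product. -/
theorem pf_diag {h : GL chevF4.Idx F} (hh : h ∈ chevF4.diagonalSubgroup F) {L : List ℕ}
    (hL : ∀ q ∈ L, q < chevF4.nroots) (hnd : L.Nodup) (f : ℕ → F) :
    ∃ f' : ℕ → F, h * PF chevF4 L f * h⁻¹ = PF chevF4 L f' := by
  obtain ⟨f', e, -⟩ := pf_conj hF ((hF).permAct_diagonal hh) L hL f hnd
  refine ⟨f', e.trans ?_⟩
  congr 1
  simp only [Equiv.Perm.one_apply]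
  rw [List.pmap_eq_map]
  simp

theorem diag_conj' {h : GL chevF4.Idx F} (hh : h ∈ chevF4.diagonalSubgroup F) {L : List ℕ}
    (hL : ∀ q ∈ L, q < chevF4.nroots) (hnd : L.Nodup) (f : ℕ → F) :
    ∃ f' : ℕ → F, h⁻¹ * PF chevF4 L f * h = PF chevF4 L f' := by
  obtain ⟨f', e⟩ := pf_diag (Subgroup.inv_mem _ hh) hL hnd f
  exact ⟨f', by rwa [inv_inv] at e⟩

/-! ### The product of the highest root elements -/

/-- The roots of the first centraliser. -/
def R1 (r : ℕ) : Prop := 24 ≤ r ∨ r ∈ [20, 22]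

theorem le1 : rootClosure chevF4 F R1 ≤ Subgroup.centralizer {X 47 1 * X 44 1} := by
  refine (Subgroup.closure_le _).2 ?_
  rintro x ⟨s, a, hs, hP, rfl⟩
  rw [SetLike.mem_coe, Subgroup.mem_centralizer_singleton_iff]
  have hs' : s < 48 := n48 ▸ hs
  obtain ⟨h1, h2⟩ := cent_tables.1 s hs' hP
  exact ((comm_of (by norm_num) hs' (h1.imp Eq.symm id) 1 a).mul_left
    (comm_of (by norm_num) hs' (h2.imp Eq.symm id) 1 a)).eq.symm

theorem simple_vals : chevF4.simple 0 = 33 ∧ chevF4.simple 1 = 27 ∧ chevF4.simple 2 = 25 ∧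
    chevF4.simple 3 = 24 ∧ chevF4.neg 33 = 14 ∧ chevF4.neg 27 = 20 ∧ chevF4.neg 25 = 22 ∧
    chevF4.neg 24 = 23 := by
  decide +kernel

theorem weights (c : ℕ → Fˣ) :
    (∏ i ∈ Finset.range chevF4.rank, c i ^ chevF4.cartan i 47) = c 3 ∧
    (∏ i ∈ Finset.range chevF4.rank, c i ^ chevF4.cartan i 44) = c 0 ∧
    (∏ i ∈ Finset.range chevF4.rank, c i ^ chevF4.cartan i 39) = (c 1)⁻¹ * c 2 ∧
    (∏ i ∈ Finset.range chevF4.rank, c i ^ chevF4.cartan i 45) = c 1 ^ 2 * (c 2)⁻¹ := by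
  have e : ∀ i < 4, ∀ r, r < 48 → chevF4.cartan i r = DataF4.tab.aa i r := fun i hi r hr =>
    cartan_eq hA (rank4.symm ▸ hi) (lt48 hr)
  have t := word_tables.2.2.2.2.2.2.2.2
  simp only [List.range, List.range.loop, List.map_cons, List.map_nil, List.cons.injEq,
    Prod.mk.injEq, and_true] at t
  obtain ⟨⟨a1, a2, a3, a4⟩, ⟨b1, b2, b3, b4⟩, ⟨c1, c2, c3, c4⟩, d1, d2, d3, d4⟩ := t
  simp [rank4, Finset.prod_range_succ, e, a1, a2, a3, a4, b1, b2, b3, b4, c1, c2, c3, c4, d1, d2, d3,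
    d4]

/-- The centraliser of `x_47(1) x_44(1)`. -/
theorem cent1 : chevF4.group F ⊓ Subgroup.centralizer {X 47 1 * X 44 1} =
    rootClosure chevF4 F R1 := by
  refine le_antisymm ?_ (le_inf ?_ le1)
  swap
  · rw [(hF).group_eq]; exact rootClosure_mono fun _ _ _ => trivial
  rintro g ⟨hg, hgv⟩
  have hL : ∀ q ∈ [47, 44], q < chevF4.nroots := by intro q hq; simp at hq; rcases hq with rfl | rfl <;> exact lt48
  have hv : ∀ a b : F, PF chevF4 [47, 44] (fun q => if q = 47 then a else b) = X 47 a * X 44 b :=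
    fun a b => by simp [PF]
  have hfree : [47, 44].Pairwise fun a b => freeB DataF4.tab a b = true := by
    simpa using facts_tables.2.2.2.2.1
  have hrow : [47, 44].Pairwise fun p q => RowFix chevF4 p q :=
    hfree.imp_of_mem fun ha hb h => rowFix_of_free hF hA hCh free_row (hL _ ha) (hL _ hb) h
  have hU : rootClosure chevF4 F (chevF4.nroots / 2 ≤ ·) ≤ Subgroup.centralizer {X 47 1 * X 44 1} :=
    le_trans (rootClosure_mono fun r _ h => Or.inl (h24 ▸ h)) le1
  obtain ⟨u1, hu1, d, hd, c, hc, rfl⟩ := exists_torus_form hF (J := {i | i = 1 ∨ i = 2}) hC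
    (R := R1) (fun i _ hi => by
      obtain ⟨-, s1, s2, -, -, n1, n2, -⟩ := simple_vals
      rcases hi with rfl | rfl
      · rw [s1, n1]; exact ⟨Or.inl (by norm_num), Or.inr (by simp)⟩
      · rw [s2, n2]; exact ⟨Or.inl (by norm_num), Or.inr (by simp)⟩)
    (fun r _ hr _ => Or.inl (h24 ▸ hr)) le1
    (by
      rintro n l hn ⟨u, u1, h, hh, hu, hu1, e⟩
      have fix : ∀ {y : GL chevF4.Idx F}, y ∈ rootClosure chevF4 F (chevF4.nroots / 2 ≤ ·) →
          y * (X 47 1 * X 44 1) * y⁻¹ = X 47 1 * X 44 1 := fun hy =>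
        mul_inv_eq_iff_eq_mul.2 (Subgroup.mem_centralizer_singleton_iff.1 (hU hy))
      have fix' := fix (Subgroup.inv_mem _ hu1)
      rw [inv_inv] at fix'
      rw [fix hu, fix', ← hv] at e
      obtain ⟨f', e', hf'⟩ := pf_conj hF hn [47, 44] hL (fun q => if q = 47 then 1 else 1) (by simp)
      obtain ⟨f'', e''⟩ := diag_conj' hh hL (by simp) (fun q => if q = 47 then (1 : F) else 1)
      rw [e', e''] at e
      have key : ∀ q (hq : q ∈ [47, 44]), (sW chevF4 l ⟨q, hL q hq⟩).val ∈ [47, 44] :=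
        fun q hq => pf_mem hF (image_lt l hL) hL (image_row l hL hfree) hrow e
          (List.mem_pmap.2 ⟨q, hq, rfl⟩) (hf' q hq (by simp))
      have k1 : (sW chevF4 l ⟨47, hL 47 (by simp)⟩).val = 47 := by
        rcases List.mem_cons.1 (key 47 (by simp)) with h' | h'
        · exact h'
        · rw [List.mem_singleton] at h'
          have := mem_sh l ⟨47, hL 47 (by simp)⟩
          rw [h', facts_tables.1, facts_tables.2.1] at this
          simp at this
      have k2 : (sW chevF4 l ⟨44, hL 44 (by simp)⟩).val = 44 := by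
        rcases List.mem_cons.1 (key 44 (by simp)) with h' | h'
        · have := mem_sh l ⟨44, hL 44 (by simp)⟩
          rw [h', facts_tables.1, facts_tables.2.1] at this
          simp at this
        · simpa using h'
      obtain ⟨w1, w2, w3, -⟩ := word_tables
      refine exists_word_fix hF (Ts := [(47, 1), (44, 1)])
        (fun p hp => by simp at hp; rcases hp with rfl | rfl <;> exact lt48) (fun i hi hiJ => ?_)
        (fun i hi hiJ p hp => ?_) (fun r hr => ?_) _ l rfl (fun p hp => ?_)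
      · have := w1 i (rank4 ▸ hi) (fun e => hiJ (Or.inl e)) (fun e => hiJ (Or.inr e))
        simpa [cartan_eq hA hi (lt48 (r := 47)), cartan_eq hA hi (lt48 (r := 44))] using this
      · obtain ⟨a1, a2⟩ := w2 i (rank4 ▸ hi) hiJ
        simp at hp
        rcases hp with rfl | rfl
        · rw [cartan_eq hA hi (lt48 (r := 47))]; exact a1
        · rw [cartan_eq hA hi (lt48 (r := 44))]; exact a2
      · have := w3 r (h24 ▸ hr)
        have hr' : r < chevF4.nroots := by omega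
        simpa [CfsgLib.Chev.Lift.pr_eq hA hr' (lt48 (r := 47)),
          CfsgLib.Chev.Lift.pr_eq hA hr' (lt48 (r := 44))] using this
      · simp at hp
        rcases hp with rfl | rfl
        · exact Fin.ext k1
        · exact Fin.ext k2) hg hgv
  have hu1C : u1 ∈ rootClosure chevF4 F R1 := rootClosure_mono (fun r _ h => Or.inl (h24 ▸ h)) hu1
  refine Subgroup.mul_mem _ (Subgroup.mul_mem _ hu1C ?_) hc
  have hdv : d ∈ Subgroup.centralizer {X 47 1 * X 44 1} := by
    have := Subgroup.mul_mem _ (Subgroup.mul_mem _ (Subgroup.inv_mem _ (le1 hu1C)) hgv)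
      (Subgroup.inv_mem _ (le1 hc))
    simpa [mul_assoc] using this
  obtain ⟨cc, rfl⟩ := (hF).mem_diagonal_iff.1 hd
  have e := mul_inv_eq_iff_eq_mul.2 (Subgroup.mem_centralizer_singleton_iff.1 hdv)
  rw [show hT chevF4 cc * (X 47 1 * X 44 1) * (hT chevF4 cc)⁻¹ =
    hT chevF4 cc * X 47 1 * (hT chevF4 cc)⁻¹ * (hT chevF4 cc * X 44 1 * (hT chevF4 cc)⁻¹) by group,
    (hF).hT_conj_xU cc lt48, (hF).hT_conj_xU cc lt48, mul_one, mul_one, (weights cc).1,
    (weights cc).2.1, ← hv, ← hv] at e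
  have c3 : cc 3 = 1 := Units.ext (by simpa using pf_inj hF hL hrow e (r := 47) (by simp))
  have c0 : cc 0 = 1 := Units.ext (by simpa using pf_inj hF hL hrow e (r := 44) (by simp))
  refine hT_mem hF (J := {i | i = 1 ∨ i = 2}) (fun i _ hi => ?_) (fun i hi hiJ => ?_)
  · obtain ⟨-, s1, s2, -, -, n1, n2, -⟩ := simple_vals
    rcases hi with rfl | rfl
    · rw [s1, n1]; exact ⟨Or.inl (by norm_num), Or.inr (by simp)⟩
    · rw [s2, n2]; exact ⟨Or.inl (by norm_num), Or.inr (by simp)⟩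
  · simp only [Set.mem_ofPred_eq, not_or] at hiJ
    rw [rank4] at hi
    rcases (by omega : i = 0 ∨ i = 3) with rfl | rfl
    exacts [c0, c3]

/-! ### The product of the orthogonal pair -/

/-- The roots of the second centraliser. -/
def R2 (r : ℕ) : Prop := (24 ≤ r ∧ r ∉ [27, 25, 34, 26]) ∨ r ∈ [14, 23]

theorem le2 : rootClosure chevF4 F R2 ≤ Subgroup.centralizer {X 39 1 * X 45 1} := by
  refine (Subgroup.closure_le _).2 ?_
  rintro x ⟨s, a, hs, hP, rfl⟩
  rw [SetLike.mem_coe, Subgroup.mem_centralizer_singleton_iff]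
  have hs' : s < 48 := n48 ▸ hs
  obtain ⟨h1, h2⟩ := cent_tables.2 s hs' hP
  exact ((comm_of (by norm_num) hs' (h1.imp Eq.symm id) 1 a).mul_left
    (comm_of (by norm_num) hs' (h2.imp Eq.symm id) 1 a)).eq.symm

/-- The correction group. -/
local notation "TG" => rootClosure chevF4 F (fun r => r ∈ Tl)

theorem tl_norm {s : ℕ} (hs : s < 48) (hs24 : 24 ≤ s) (a : F) :
    ∀ x ∈ TG, X s a * x * (X s a)⁻¹ ∈ TG := by
  intro x hx
  refine conj_closure (fun y hy => ?_) hx
  obtain ⟨q, b, hq, hqT, rfl⟩ := hy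
  by_cases he : s = q
  · subst he
    rw [(hF).xU_inv (lt48 hs), (hF).xU_add (lt48 hs), (hF).xU_add (lt48 hs)]
    exact xU_mem_rootClosure (lt48 hs) hqT _
  obtain ⟨hneg, hterm⟩ := conj_tables.2.1 s hs hs24 q hqT he
  have hneg' : q ≠ chevF4.neg s := by rw [neg_eq hA (lt48 hs)]; exact hneg
  rw [(hF).xU_inv (lt48 hs), mul_assoc, (hF).xU_comm hC (lt48 hs) hq (Ne.symm he) hneg',
    ← mul_assoc, ← mul_assoc, (hF).xU_add (lt48 hs), add_neg_cancel, (hF).xU_zero (lt48 hs),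
    one_mul]
  refine Subgroup.mul_mem _ (xU_mem_rootClosure hq hqT b) (wU_mem fun p hp => ?_)
  obtain ⟨c, hc, rfl⟩ := List.mem_map.1 hp
  have hc' := hc
  rw [termsT_eq hA hCh DataF4.short (lt48 hs) hq] at hc'
  have hc1 := (co_term hF hC.{v} (lt48 hs) hq hc).1
  rcases hterm c hc' with h | h
  · show X c.1 _ ∈ TG
    rw [cast_even h, zero_mul, zero_mul, (hF).xU_zero hc1]
    exact Subgroup.one_mem _
  · exact xU_mem_rootClosure hc1 h _

theorem u_norm {u : GL chevF4.Idx F} (hu : u ∈ rootClosure chevF4 F (24 ≤ ·)) :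
    ∀ x ∈ TG, u * x * u⁻¹ ∈ TG := by
  have hle : rootClosure chevF4 F (24 ≤ ·) ≤
      Subgroup.normalizer (TG : Set (GL chevF4.Idx F)) := by
    refine (Subgroup.closure_le _).2 ?_
    rintro y ⟨s, a, hs, hs24, rfl⟩
    refine normalizer_of_conj (tl_norm (n48 ▸ hs) hs24 a) fun x hx => ?_
    have := tl_norm (n48 ▸ hs) hs24 (-a) x hx
    rwa [← (hF).xU_inv hs, inv_inv] at this
  exact fun x hx => (Subgroup.mem_normalizer_iff.1 (hle hu) x).1 hx

theorem conj_lead {q : ℕ} (hq : q ∈ [39, 45]) {u : GL chevF4.Idx F}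
    (hu : u ∈ rootClosure chevF4 F (24 ≤ ·)) :
    (X q 1)⁻¹ * (u * X q 1 * u⁻¹) ∈ TG := by
  have hq' : q < 48 := by simp at hq; omega
  set t := X q 1 with ht
  have hN : ∀ y ∈ rootClosure chevF4 F (24 ≤ ·), ∀ x ∈ TG, y * x * y⁻¹ ∈ TG :=
    fun y hy => u_norm hy
  induction hu using Subgroup.closure_induction with
  | mem y hy =>
    obtain ⟨s, a, hs, hs24, rfl⟩ := hy
    have hs' : s < 48 := n48 ▸ hs
    by_cases he : s = q
    · have : X s a * t * (X s a)⁻¹ = t := by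
        rw [mul_inv_eq_iff_eq_mul, he, ht, (hF).xU_add (lt48 hq'), (hF).xU_add (lt48 hq'), add_comm]
      rw [this, inv_mul_cancel]; exact Subgroup.one_mem _
    obtain ⟨hneg, hterm⟩ := conj_tables.1 s hs' hs24 q hq he
    have hneg' : s ≠ chevF4.neg q := by rw [neg_eq hA (lt48 hq')]; exact hneg
    rw [ht, (hF).xU_comm hC (lt48 hq') hs he hneg', ← ht,
      show t⁻¹ * (t * X s a * wU chevF4 (cwR chevF4 q s 1 a) * (X s a)⁻¹) =
        X s a * wU chevF4 (cwR chevF4 q s 1 a) * (X s a)⁻¹ by group]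
    refine tl_norm hs' hs24 a _ (wU_mem fun p hp => ?_)
    obtain ⟨c, hc, rfl⟩ := List.mem_map.1 hp
    have hc' := hc
    rw [termsT_eq hA hCh DataF4.short (lt48 hq') hs] at hc'
    have hc1 := (co_term hF hC.{v} (lt48 hq') hs hc).1
    rcases hterm c hc' with h | h
    · show X c.1 _ ∈ TG
      rw [cast_even h, zero_mul, zero_mul, (hF).xU_zero hc1]
      exact Subgroup.one_mem _
    · exact xU_mem_rootClosure hc1 h _
  | one => simp
  | mul y z hy' _ hy hz =>
    rw [show t⁻¹ * (y * z * t * (y * z)⁻¹) =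
      (t⁻¹ * (y * t * y⁻¹)) * (y * (t⁻¹ * (z * t * z⁻¹)) * y⁻¹) by group]
    exact Subgroup.mul_mem _ hy (hN y hy' _ hz)
  | inv y hy' hy =>
    rw [show t⁻¹ * (y⁻¹ * t * y⁻¹⁻¹) = y⁻¹ * (t⁻¹ * (y * t * y⁻¹))⁻¹ * y⁻¹⁻¹ by group]
    exact hN _ (Subgroup.inv_mem _ hy') _ (Subgroup.inv_mem _ hy)

/-- The positive conjugates of `x_39(1) x_45(1)`. -/
theorem conj_v {u : GL chevF4.Idx F} (hu : u ∈ rootClosure chevF4 F (24 ≤ ·)) :
    ∃ f : ℕ → F, u * (X 39 1 * X 45 1) * u⁻¹ = PF chevF4 Qs f ∧ f 39 = 1 ∧ f 45 = 1 := by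
  have h1 := conj_lead (F := F) (q := 39) (by simp) hu
  have h2 := conj_lead (F := F) (q := 45) (by simp) hu
  have htl : ∀ q ∈ Tl, q < chevF4.nroots := fun q hq => qs_lt q (by revert q; decide)
  obtain ⟨f, hf⟩ := exists_pf hF htl (by decide) (fun r hr s hs => qs_comm r (by revert r; decide) s
    (by revert s; decide)) (Subgroup.mul_mem _ h1 h2)
  have hc : ∀ z ∈ TG, Commute (X 45 1) z := by
    intro z hz
    induction hz using Subgroup.closure_induction with
    | mem z hz =>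
      obtain ⟨r, a, -, hr, rfl⟩ := hz
      exact qs_comm 45 (by decide) r (by revert r; decide) 1 a
    | one => exact Commute.one_right _
    | mul _ _ _ _ h h' => exact h.mul_right h'
    | inv _ _ h => exact h.inv_right
  have e : u * (X 39 1 * X 45 1) * u⁻¹ = X 39 1 * X 45 1 * PF chevF4 Tl f := by
    rw [← hf, show u * (X 39 1 * X 45 1) * u⁻¹ =
      X 39 1 * ((X 39 1)⁻¹ * (u * X 39 1 * u⁻¹) * X 45 1) * ((X 45 1)⁻¹ * (u * X 45 1 * u⁻¹)) by group,
      ← (hc _ h1).eq]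
    group
  refine ⟨fun q => if q = 39 ∨ q = 45 then 1 else f q, ?_, by simp, by simp⟩
  rw [e]
  simp only [PF, Qs, Tl, List.map_cons, List.map_nil, List.prod_cons, List.prod_nil, mul_one]
  simp only [show (45 : ℕ) ≠ 39 from by norm_num, show (40 : ℕ) ≠ 39 from by norm_num,
    show (40 : ℕ) ≠ 45 from by norm_num, show (44 : ℕ) ≠ 39 from by norm_num,
    show (44 : ℕ) ≠ 45 from by norm_num, show (46 : ℕ) ≠ 39 from by norm_num,
    show (46 : ℕ) ≠ 45 from by norm_num, show (47 : ℕ) ≠ 39 from by norm_num,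
    show (47 : ℕ) ≠ 45 from by norm_num, or_self, or_true, true_or, if_true, if_false]
  rw [← mul_assoc (X 40 (f 40)) (X 44 (f 44)) (X 45 1 * _),
    ← mul_assoc (X 40 (f 40) * X 44 (f 44)) (X 45 1),
    ← ((qs_comm 45 (by decide) 40 (by decide) 1 (f 40)).mul_right
      (qs_comm 45 (by decide) 44 (by decide) 1 (f 44))).eq]
  simp only [mul_assoc]

/-- Conjugation of a root element of the pair by one of the four complementary ones. -/
theorem conj_step {q s k : ℕ} (h : (q, s, k) ∈ [(39, 27, 40), (39, 34, 44), (45, 25, 46), (45, 26, 47)])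
    (a t : F) : X s a * X q t * (X s a)⁻¹ = X q t * X k (t * a) := by
  obtain ⟨z, hz, hterm, hcomm⟩ := conj_tables.2.2.1 _ h
  have hq : q < 48 := by simp at h; omega
  have hs : s < 48 := by simp at h; omega
  have hk : k < 48 := by simp at h; omega
  have hne : s ≠ q := by simp at h; omega
  have hneg : s ≠ chevF4.neg q := by
    rw [neg_eq hA (lt48 hq)]
    have : DataF4.tab.neg q = 47 - q := rfl
    rw [this]
    simp at h; omega
  have hz1 : (z : F) = 1 := by
    simp at hz; rcases hz with rfl | rfl <;> simp [CharTwo.neg_eq]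
  rw [(hF).xU_comm hC (lt48 hq) (lt48 hs) hne hneg,
    show wU chevF4 (cwR chevF4 q s t a) = X k (t * a) by
      simp [cwR, termsT_eq hA hCh DataF4.short (lt48 hq) (lt48 hs), hterm, wU, hz1, CharTwo.neg_eq],
    mul_assoc (X q t) (X s a), (comm_of hs hk (Or.inr hcomm) a (t * a)).eq]
  group

theorem conj_comm {r q : ℕ} (h : (r, q) ∈ [(27, 45), (25, 39), (34, 45), (26, 39), (25, 40), (34, 40),
    (34, 46), (26, 40), (26, 44), (26, 46)]) (a t : F) : X r a * X q t * (X r a)⁻¹ = X q t := by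
  have hc := conj_tables.2.2.2 _ h
  have hr : r < 48 := by simp at h; omega
  have hq : q < 48 := by simp at h; omega
  rw [(comm_of hr hq (Or.inr hc) a t).eq, mul_inv_cancel_right]

theorem peel {q : ℕ} {L : List ℕ}
    (hmem : (q, L) ∈ [(27, [33, 24]), (25, [27, 33, 24]), (34, [25, 27, 33, 24]),
      (26, [34, 25, 27, 33, 24])])
    {x : GL chevF4.Idx F} (hx : x ∈ rootClosure chevF4 F (fun r => 24 ≤ r ∧ r ∉ L)) :
    ∃ a ∈ rootClosure chevF4 F (fun r => 24 ≤ r ∧ r ∉ q :: L), ∃ t : F, x = a * X q t := by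
  have hq : q < 48 := by simp at hmem; omega
  obtain ⟨a, ha, c, hc, rfl⟩ := (hF).closure_split hC (A := fun r => 24 ≤ r ∧ r ∉ L)
    (Q₁ := fun r => 24 ≤ r ∧ r ∉ q :: L) (Q₂ := (· = q))
    (fun r _ h => (em (r = q)).elim Or.inr fun h' =>
      Or.inl ⟨h.1, fun h'' => (List.mem_cons.1 h'').elim h' h.2⟩)
    (by
      rintro i hi rfl j hj ⟨hj24, hjn⟩
      simp only [List.mem_cons, not_or] at hjn
      have h := split_tables.2 _ hmem j (n48 ▸ hj) hj24 hjn.2 hjn.1
      refine ⟨by rw [neg_eq hA hi]; exact h.1, fun hne c hc => ⟨?_, ?_⟩⟩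
      · have hi24 : 24 ≤ i := by simp at hmem; omega
        have := ((hF).commTerms_lt hi hj (h24.symm ▸ hi24) (h24.symm ▸ hj24) hc).2.1
        omega
      · rw [termsT_eq hA hCh DataF4.short hi hj] at hc
        exact h.2 c hc) hx
  obtain ⟨t, rfl⟩ : ∃ t, c = X q t :=
    ((hF).mem_rootSubgroup_iff (lt48 hq)).1 (by rw [(hF).rootSubgroup_eq (lt48 hq)]; exact hc)
  exact ⟨a, ha, t, rfl⟩

/-- The centraliser of `x_39(1) x_45(1)`. -/
theorem cent2 : chevF4.group F ⊓ Subgroup.centralizer {X 39 1 * X 45 1} =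
    rootClosure chevF4 F R2 := by
  refine le_antisymm ?_ (le_inf ?_ le2)
  swap
  · rw [(hF).group_eq]; exact rootClosure_mono fun _ _ _ => trivial
  rintro g ⟨hg, hgv⟩
  have hsimple : ∀ i < chevF4.rank, i ∈ {i | i = 0 ∨ i = 3} →
      R2 (chevF4.simple i) ∧ R2 (chevF4.neg (chevF4.simple i)) := fun i _ hi => by
    obtain ⟨s0, -, -, s3, n0, -, -, n3⟩ := simple_vals
    rcases hi with rfl | rfl
    · rw [s0, n0]; exact ⟨Or.inl ⟨by norm_num, by simp⟩, Or.inr (by simp)⟩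
    · rw [s3, n3]; exact ⟨Or.inl ⟨by norm_num, by simp⟩, Or.inr (by simp)⟩
  obtain ⟨-, -, -, w1, w2, w3, w4, -⟩ := word_tables
  have h3324 : ∀ r, r ∈ [33, 24] → R2 r := fun r hr => Or.inl (by
    simp at hr; rcases hr with rfl | rfl <;> simp)
  obtain ⟨u1, hu1, d, hd, c, hc, rfl⟩ := exists_torus_form hF (J := {i | i = 0 ∨ i = 3}) hC
    (R := R2) hsimple
    (fun r hr hrp hrJ => h3324 r (w4 r (n48 ▸ hr) (h24 ▸ hrp) fun m hm h0 h3 =>
      hrJ m (rank4.symm ▸ hm) (by rintro (e | e) <;> omega))) le2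
    (by
      rintro n l hn ⟨u, u1, h, hh, hu, hu1, e⟩
      obtain ⟨f, hf, hf39, hf45⟩ := conj_v (F := F) (h24 ▸ hu)
      obtain ⟨f1, hf1, -, -⟩ := conj_v (F := F) (Subgroup.inv_mem _ (h24 ▸ hu1))
      rw [inv_inv] at hf1
      rw [hf, hf1] at e
      obtain ⟨f', e', hf'⟩ := pf_conj hF hn Qs qs_lt f (by decide)
      obtain ⟨f'', e''⟩ := diag_conj' hh qs_lt (by decide) f1
      rw [e', e''] at e
      have key : ∀ q (hq : q ∈ Qs), f q ≠ 0 → (sW chevF4 l ⟨q, qs_lt q hq⟩).val ∈ Qs :=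
        fun q hq h0 => pf_mem hF (image_lt l qs_lt) qs_lt
          (image_row l qs_lt facts_tables.2.2.2.2.2.1) qs_row e
          (List.mem_pmap.2 ⟨q, hq, rfl⟩) (hf' q hq h0)
      obtain ⟨k1, k2⟩ := facts_tables.2.2.2.1 _ (key 39 (by decide) (by rw [hf39]; exact one_ne_zero))
        _ (key 45 (by decide) (by rw [hf45]; exact one_ne_zero))
        (mix_sW l ⟨39, qs_lt 39 (by decide)⟩ ⟨45, qs_lt 45 (by decide)⟩ facts_tables.2.2.1)
      refine exists_word_fix hF (Ts := [(39, 3), (45, 2)])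
        (fun p hp => by simp at hp; rcases hp with rfl | rfl <;> exact lt48) (fun i hi hiJ => ?_)
        (fun i hi hiJ p hp => ?_) (fun r hr => ?_) _ l rfl (fun p hp => ?_)
      · have := w1 i (rank4 ▸ hi) (fun e => hiJ (Or.inl e)) (fun e => hiJ (Or.inr e))
        simpa [cartan_eq hA hi (lt48 (r := 39)), cartan_eq hA hi (lt48 (r := 45))] using this
      · obtain ⟨a1, a2⟩ := w2 i (rank4 ▸ hi) hiJ
        simp at hp
        rcases hp with rfl | rfl
        · rw [cartan_eq hA hi (lt48 (r := 39))]; exact a1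
        · rw [cartan_eq hA hi (lt48 (r := 45))]; exact a2
      · have := w3 r (h24 ▸ hr)
        have hr' : r < chevF4.nroots := by omega
        simpa [CfsgLib.Chev.Lift.pr_eq hA hr' (lt48 (r := 39)),
          CfsgLib.Chev.Lift.pr_eq hA hr' (lt48 (r := 45))] using this
      · simp at hp
        rcases hp with rfl | rfl
        · exact Fin.ext k1
        · exact Fin.ext k2) hg hgv
  suffices H : u1 * d ∈ rootClosure chevF4 F R2 from Subgroup.mul_mem _ H hc
  have hudv : u1 * d ∈ Subgroup.centralizer {X 39 1 * X 45 1} := by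
    have := Subgroup.mul_mem _ hgv (Subgroup.inv_mem _ (le2 hc))
    simpa [mul_assoc] using this
  -- the part in the Levi subgroup
  obtain ⟨a, ha, l2, hl2, rfl⟩ := (hF).closure_split hC (A := (chevF4.nroots / 2 ≤ ·))
    (Q₁ := fun r => 24 ≤ r ∧ r ∉ [33, 24]) (Q₂ := (· ∈ [33, 24]))
    (fun r _ h => (em (r ∈ [33, 24])).elim Or.inr fun h' => Or.inl ⟨h24 ▸ h, h'⟩)
    (by
      rintro i hi hiL j hj ⟨hj24, hjn⟩
      have h := split_tables.1 i hiL j (n48 ▸ hj) hj24 hjn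
      refine ⟨by rw [neg_eq hA hi]; exact h.1, fun hne c hc => ⟨?_, ?_⟩⟩
      · have hi24 : 24 ≤ i := by simp at hiL; omega
        have := ((hF).commTerms_lt hi hj (h24.symm ▸ hi24) (h24.symm ▸ hj24) hc).2.1
        omega
      · rw [termsT_eq hA hCh DataF4.short hi hj] at hc
        exact h.2 c hc) hu1
  have hl2' : d⁻¹ * l2 * d ∈ rootClosure chevF4 F R2 := by
    refine rootClosure_mono (fun r _ h => h3324 r h) ?_
    have := (Subgroup.mem_normalizer_iff.1 ((hF).diagonal_le_normalizer (fun r => r ∈ [33, 24])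
      (Subgroup.inv_mem _ hd)) l2).1 hl2
    rwa [inv_inv] at this
  suffices H : a * d ∈ rootClosure chevF4 F R2 by
    rw [show a * l2 * d = a * d * (d⁻¹ * l2 * d) by group]
    exact Subgroup.mul_mem _ H hl2'
  have hadv : a * d ∈ Subgroup.centralizer {X 39 1 * X 45 1} := by
    have := Subgroup.mul_mem _ hudv (Subgroup.inv_mem _ (le2 hl2'))
    rwa [show a * l2 * d * (d⁻¹ * l2 * d)⁻¹ = a * d by group] at this
  obtain ⟨a4, ha4, e, rfl⟩ := peel (q := 27) (by simp) ha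
  obtain ⟨a3, ha3, cc, rfl⟩ := peel (q := 25) (by simp) ha4
  obtain ⟨a2, ha2, b, rfl⟩ := peel (q := 34) (by simp) ha3
  obtain ⟨a1, ha1, a0, rfl⟩ := peel (q := 26) (by simp) ha2
  have ha1C : a1 ∈ rootClosure chevF4 F R2 := rootClosure_mono (fun r _ h => Or.inl ⟨h.1, fun h' =>
    h.2 (by revert h'; simp; omega)⟩) ha1
  set y := X 26 a0 * X 34 b * X 25 cc * X 27 e with hy
  have hyd : y * d ∈ Subgroup.centralizer {X 39 1 * X 45 1} := by
    have := Subgroup.mul_mem _ (Subgroup.inv_mem _ (le2 ha1C)) hadv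
    simpa [hy, mul_assoc] using this
  obtain ⟨kk, rfl⟩ := (hF).mem_diagonal_iff.1 hd
  have hfix := mul_inv_eq_iff_eq_mul.2 (Subgroup.mem_centralizer_singleton_iff.1 hyd)
  set p := (((kk 1)⁻¹ * kk 2 : Fˣ) : F) with hp
  set r := ((kk 1 ^ 2 * (kk 2)⁻¹ : Fˣ) : F) with hr
  have cj : ∀ s a z : GL chevF4.Idx F, s * (a * z) * s⁻¹ = (s * a * s⁻¹) * (s * z * s⁻¹) :=
    fun s a z => by group
  have s39 : y * X 39 p * y⁻¹ = X 39 p * (X 44 (p * b) * X 40 (p * e)) := by
    have e1 : X 25 cc * (X 39 p * X 40 (p * e)) * (X 25 cc)⁻¹ = X 39 p * X 40 (p * e) := by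
      rw [cj, conj_comm (r := 25) (q := 39) (by simp), conj_comm (r := 25) (q := 40) (by simp)]
    have e2 : X 34 b * (X 39 p * X 40 (p * e)) * (X 34 b)⁻¹ =
        X 39 p * (X 44 (p * b) * X 40 (p * e)) := by
      rw [cj, conj_step (k := 44) (by simp), conj_comm (r := 34) (q := 40) (by simp), mul_assoc]
    have e3 : X 26 a0 * (X 39 p * (X 44 (p * b) * X 40 (p * e))) * (X 26 a0)⁻¹ =
        X 39 p * (X 44 (p * b) * X 40 (p * e)) := by
      rw [cj, cj, conj_comm (r := 26) (q := 39) (by simp), conj_comm (r := 26) (q := 44) (by simp),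
        conj_comm (r := 26) (q := 40) (by simp)]
    calc y * X 39 p * y⁻¹
        = X 26 a0 * (X 34 b * (X 25 cc * (X 27 e * X 39 p * (X 27 e)⁻¹) * (X 25 cc)⁻¹) * (X 34 b)⁻¹) *
            (X 26 a0)⁻¹ := by rw [hy]; group
      _ = _ := by rw [conj_step (k := 40) (by simp), e1, e2, e3]
  have s45 : y * X 45 r * y⁻¹ = X 45 r * (X 47 (r * a0) * X 46 (r * cc)) := by
    have e2 : X 34 b * (X 45 r * X 46 (r * cc)) * (X 34 b)⁻¹ = X 45 r * X 46 (r * cc) := by
      rw [cj, conj_comm (r := 34) (q := 45) (by simp), conj_comm (r := 34) (q := 46) (by simp)]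
    have e3 : X 26 a0 * (X 45 r * X 46 (r * cc)) * (X 26 a0)⁻¹ =
        X 45 r * (X 47 (r * a0) * X 46 (r * cc)) := by
      rw [cj, conj_step (k := 47) (by simp), conj_comm (r := 26) (q := 46) (by simp), mul_assoc]
    calc y * X 45 r * y⁻¹
        = X 26 a0 * (X 34 b * (X 25 cc * (X 27 e * X 45 r * (X 27 e)⁻¹) * (X 25 cc)⁻¹) * (X 34 b)⁻¹) *
            (X 26 a0)⁻¹ := by rw [hy]; group
      _ = _ := by
        rw [conj_comm (r := 27) (q := 45) (by simp), conj_step (k := 46) (by simp), e2, e3]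
  rw [show y * hT chevF4 kk * (X 39 1 * X 45 1) * (y * hT chevF4 kk)⁻¹ =
    (y * (hT chevF4 kk * X 39 1 * (hT chevF4 kk)⁻¹) * y⁻¹) *
      (y * (hT chevF4 kk * X 45 1 * (hT chevF4 kk)⁻¹) * y⁻¹) by group,
    (hF).hT_conj_xU kk lt48, (hF).hT_conj_xU kk lt48, mul_one, mul_one, (weights kk).2.2.1,
    (weights kk).2.2.2, ← hp, ← hr, s39, s45] at hfix
  have c1 := (qs_comm 44 (by decide) 40 (by decide) (p * b) (p * e)).eq
  have c2 := (qs_comm 47 (by decide) 46 (by decide) (r * a0) (r * cc)).eq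
  have heq : PF chevF4 Qs (fun q => if q = 39 then p else if q = 40 then p * e else
      if q = 44 then p * b else if q = 45 then r else if q = 46 then r * cc else r * a0) =
      PF chevF4 Qs (fun q => if q = 39 then (1 : F) else if q = 40 then 0 else
        if q = 44 then 0 else if q = 45 then 1 else if q = 46 then 0 else 0) := by
    simp only [PF, Qs, List.map_cons, List.map_nil, List.prod_cons, List.prod_nil, mul_one, if_true,
      show ((40 : ℕ) = 39) = False from by simp, show ((44 : ℕ) = 39) = False from by simp,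
      show ((44 : ℕ) = 40) = False from by simp, show ((45 : ℕ) = 39) = False from by simp,
      show ((45 : ℕ) = 40) = False from by simp, show ((45 : ℕ) = 44) = False from by simp,
      show ((46 : ℕ) = 39) = False from by simp, show ((46 : ℕ) = 40) = False from by simp,
      show ((46 : ℕ) = 44) = False from by simp, show ((46 : ℕ) = 45) = False from by simp,
      show ((47 : ℕ) = 39) = False from by simp, show ((47 : ℕ) = 40) = False from by simp,
      show ((47 : ℕ) = 44) = False from by simp, show ((47 : ℕ) = 45) = False from by simp,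
      show ((47 : ℕ) = 46) = False from by simp, if_false, (hF).xU_zero (lt48 (r := 40)),
      (hF).xU_zero (lt48 (r := 44)), (hF).xU_zero (lt48 (r := 46)), (hF).xU_zero (lt48 (r := 47)),
      one_mul]
    rw [c1, c2] at hfix
    simpa only [mul_assoc] using hfix
  have k39 := pf_inj hF qs_lt qs_row heq (r := 39) (by decide)
  have k40 := pf_inj hF qs_lt qs_row heq (r := 40) (by decide)
  have k44 := pf_inj hF qs_lt qs_row heq (r := 44) (by decide)
  have k45 := pf_inj hF qs_lt qs_row heq (r := 45) (by decide)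
  have k46 := pf_inj hF qs_lt qs_row heq (r := 46) (by decide)
  have k47 := pf_inj hF qs_lt qs_row heq (r := 47) (by decide)
  simp at k39 k40 k44 k45 k46 k47
  have hp0 : p ≠ 0 := Units.ne_zero _
  have hr0 : r ≠ 0 := Units.ne_zero _
  obtain rfl : e = 0 := k40.resolve_left hp0
  obtain rfl : b = 0 := k44.resolve_left hp0
  obtain rfl : cc = 0 := k46.resolve_left hr0
  obtain rfl : a0 = 0 := k47.resolve_left hr0
  simp only [(hF).xU_zero (lt48 (r := 26)), (hF).xU_zero (lt48 (r := 34)),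
    (hF).xU_zero (lt48 (r := 25)), (hF).xU_zero (lt48 (r := 27)), mul_one]
  refine Subgroup.mul_mem _ ha1C (hT_mem hF (J := {i | i = 0 ∨ i = 3}) hsimple fun i hi hiJ => ?_)
  have k39' : (kk 1)⁻¹ * kk 2 = 1 := Units.ext (by rw [← hp, k39, Units.val_one])
  have k45' : kk 1 ^ 2 * (kk 2)⁻¹ = 1 := Units.ext (by rw [← hr, k45, Units.val_one])
  rw [inv_mul_eq_one] at k39'
  rw [← k39', sq, mul_inv_cancel_right] at k45'
  simp only [Set.mem_ofPred_eq, not_or] at hiJ
  rw [rank4] at hi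
  rcases (by omega : i = 1 ∨ i = 2) with rfl | rfl
  exacts [k45', k39' ▸ k45']

end

end CfsgLib.Chev.EvenInvol.F4Cent
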