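import Cfsg.Agent.Lib.Known.EvenInvol.Classes

/-!
# Certificates for the involution classes of F4 in characteristic two

Computed data, checked by the kernel against the tables.
-/

set_option autoImplicit false
set_option maxRecDepth 20000

namespace CfsgLib.Chev.EvenInvol.F4Invol

open Cfsg.Lie CfsgLib.Chev.Table CfsgLib.Chev.LacedInvol

/-- The moves of the reduction. -/
def moves : List (List ℕ × List MoveData) := [
  ([0], [(0, 33, [], [])]),
  ([1], [(1, 27, [], [])]),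
  ([2], [(2, 25, [], [])]),
  ([3], [(3, 24, [], [])]),
  ([0, 2], [(0, 33, [2], []),
    (2, 25, [0], [])]),
  ([1, 2], [(1, 28, [1], [2]),
    (2, 30, [2], [1])]),
  ([1, 3], [(1, 27, [3], []),
    (3, 24, [1], [])]),
  ([0, 1, 2], [(0, 37, [0, 2], [1, 2, 1]),
    (1, 37, [0, 2], [1, 2, 0]),
    (2, 41, [1, 2], [0, 1])]),
  ([1, 2, 3], [(1, 29, [1, 2], [3, 2]),
    (2, 32, [1, 3], [2, 3, 1]),
    (3, 32, [1, 3], [2, 1, 2])]),
  ([0, 1, 2, 3], [(0, 44, [1, 2, 3], [0, 1, 2, 3, 1, 2, 1]),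
    (1, 44, [1, 2, 3], [0, 1, 2, 3, 1, 2, 0]),
    (2, 47, [0, 1, 2], [3, 2, 1, 2, 3, 0, 1]),
    (3, 47, [0, 1, 2], [3, 2, 1, 2, 0, 1, 2])])]

/-- The cascades of the states. -/
def ks : List (List ℕ × List (List ℕ)) := [
  ([0], [[33]]),
  ([1], [[27]]),
  ([2], [[25]]),
  ([3], [[24]]),
  ([0, 2], [[25, 33], [33, 25]]),
  ([1, 2], [[28, 27], [30, 25]]),
  ([1, 3], [[24, 27], [27, 24]]),
  ([0, 1, 2], [[37, 25, 33], [37, 33, 25], [41, 28, 27], [41, 30, 25]]),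
  ([1, 2, 3], [[29, 28, 27], [29, 30, 25], [32, 24, 27], [32, 27, 24]]),
  ([0, 1, 2, 3], [[44, 29, 28, 27], [44, 29, 30, 25], [44, 32, 24, 27], [44, 32, 27, 24], [47, 37, 25, 33], [47, 37, 33, 25], [47, 41, 28, 27], [47, 41, 30, 25]])]

/-- The steps, the last one first. -/
def steps : List (List ℕ × Step) := [
  ([47, 41, 30, 25], .letters [22, 9] [30, 38, 39, 41]),
  ([30, 38, 39, 41], .perm [0, 1] [44, 29, 30, 25]),
  ([47, 41, 28, 27], .perm [3, 2, 0, 1, 2, 3, 1, 0] [44, 29, 30, 25]),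
  ([47, 37, 33, 25], .perm [3, 2, 0, 1, 2, 3] [44, 29, 30, 25]),
  ([47, 37, 25, 33], .perm [3, 2, 0, 1, 2, 3] [44, 29, 30, 25]),
  ([44, 32, 27, 24], .perm [3, 2] [44, 29, 30, 25]),
  ([44, 32, 24, 27], .perm [3, 2] [44, 29, 30, 25]),
  ([44, 29, 30, 25], .letters [22, 20] [27, 28, 29, 44]),
  ([27, 28, 29, 44], .perm [] [44, 29, 28, 27]),
  ([44, 29, 28, 27], .letters [42, 25, 4] [28, 29, 45]),
  ([28, 29, 45], .perm [3, 1, 2, 0, 1] [37, 25, 33]),
  ([47, 41, 30], .perm [3, 2, 1, 2, 3, 0, 1] [41, 30, 25]),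
  ([47, 41, 28], .perm [3, 2, 0, 1, 2, 3, 1, 2, 0] [29, 30, 25]),
  ([47, 41, 27], .perm [3, 2, 0, 1, 2, 3, 1, 0] [29, 30, 25]),
  ([47, 41, 25], .perm [3, 2, 1, 2, 3, 0] [41, 30, 25]),
  ([47, 37, 33], .perm [3, 1, 2, 0, 1, 2, 3, 0, 1] [37, 25, 33]),
  ([47, 37, 25], .perm [3, 2, 0, 1, 2, 3, 1, 2, 1] [29, 30, 25]),
  ([47, 33, 25], .perm [3, 2, 0, 1, 2, 3] [29, 30, 25]),
  ([47, 30, 25], .perm [3, 2, 1, 2, 3] [41, 30, 25]),
  ([47, 28, 27], .perm [3, 1, 2, 0, 1, 2, 3] [37, 25, 33]),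
  ([47, 25, 33], .perm [3, 2, 0, 1, 2, 3] [29, 30, 25]),
  ([44, 32, 27], .perm [3, 2, 1, 2, 0, 1, 2] [37, 25, 33]),
  ([44, 32, 24], .perm [0, 1, 2, 3, 1, 2, 0] [29, 30, 25]),
  ([44, 30, 25], .perm [0, 1, 2, 1, 0] [29, 30, 25]),
  ([44, 29, 30], .perm [3, 2, 1, 2, 3, 0, 1] [37, 25, 33]),
  ([44, 29, 28], .perm [0, 1, 2, 3, 1, 2, 0] [29, 28, 27]),
  ([44, 29, 27], .perm [0, 1, 2, 3, 1, 0] [29, 28, 27]),
  ([44, 29, 25], .perm [3, 2, 1, 2, 3, 0] [37, 25, 33]),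
  ([44, 28, 27], .perm [0, 1, 2, 1, 0] [29, 28, 27]),
  ([44, 27, 24], .perm [3, 2, 1, 0] [37, 25, 33]),
  ([44, 24, 27], .perm [3, 2, 1, 0] [37, 25, 33]),
  ([41, 30, 25], .letters [22, 13] [30, 34, 35]),
  ([30, 34, 35], .perm [1] [37, 25, 33]),
  ([41, 28, 27], .perm [1, 0] [37, 25, 33]),
  ([37, 33, 25], .perm [] [37, 25, 33]),
  ([37, 25, 33], .letters [34, 20, 17] [25, 37]),
  ([25, 37], .perm [2, 1, 2, 0, 1, 2, 3, 0, 1] [39, 45]),
  ([32, 27, 24], .perm [3, 2] [29, 30, 25]),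
  ([32, 24, 27], .perm [3, 2] [29, 30, 25]),
  ([29, 30, 25], .letters [22, 20] [27, 28, 29]),
  ([27, 28, 29], .perm [] [29, 28, 27]),
  ([29, 28, 27], .letters [25, 24, 21] [28, 31]),
  ([28, 31], .perm [2, 1, 2, 3, 1, 2, 1, 0] [39, 45]),
  ([47, 41], .perm [3, 2, 0, 1, 2, 3, 1, 0] [30, 25]),
  ([47, 37], .perm [2, 3] [39, 45]),
  ([47, 33], .perm [2, 3, 1, 2, 1] [39, 45]),
  ([47, 30], .perm [3, 2, 0, 1, 2, 3, 1] [30, 25]),
  ([47, 28], .perm [2, 3, 1, 0] [39, 45]),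
  ([47, 27], .perm [2, 3, 1, 2, 0] [39, 45]),
  ([47, 25], .perm [3, 2, 0, 1, 2, 3] [30, 25]),
  ([44, 32], .perm [1, 0] [39, 45]),
  ([44, 30], .perm [1, 2, 3, 0] [39, 45]),
  ([44, 29], .perm [3, 2, 0, 1, 2, 3, 1, 0] [28, 27]),
  ([44, 28], .perm [3, 2, 0, 1, 2, 1, 0] [28, 27]),
  ([44, 27], .perm [3, 0, 1, 2, 1, 0] [28, 27]),
  ([44, 25], .perm [1, 2, 3, 0, 1] [39, 45]),
  ([44, 24], .perm [1, 2, 0, 1, 2] [39, 45]),
  ([41, 30], .perm [0, 1] [30, 25]),
  ([41, 28], .perm [2, 1, 2, 0, 1, 2, 3] [39, 45]),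
  ([41, 27], .perm [2, 1, 2, 0, 1, 2, 3, 2] [39, 45]),
  ([41, 25], .perm [0] [30, 25]),
  ([37, 33], .perm [0, 1] [28, 27]),
  ([37, 25], .perm [2, 1, 2, 0, 1, 2, 3, 0, 1] [39, 45]),
  ([33, 25], .perm [2, 1, 2, 0, 1, 2, 3, 2, 0, 1] [39, 45]),
  ([32, 27], .perm [2, 1, 2, 3, 2, 1, 2, 1, 0] [39, 45]),
  ([32, 24], .perm [3, 2] [30, 25]),
  ([30, 25], .letters [20] [28, 30]),
  ([29, 30], .perm [1, 2, 3, 1, 2, 1, 0] [39, 45]),
  ([29, 28], .perm [3, 2] [28, 27]),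
  ([29, 27], .perm [3] [28, 27]),
  ([29, 25], .perm [1, 2, 3, 1, 2, 0, 1, 0] [39, 45]),
  ([28, 27], .letters [22] [28, 30]),
  ([28, 30], .perm [3, 2, 0, 1, 2, 3, 1, 0] [47, 44]),
  ([27, 24], .perm [2, 1, 2, 3, 1, 2, 0, 1, 2, 0] [39, 45]),
  ([25, 33], .perm [2, 1, 2, 0, 1, 2, 3, 2, 0, 1] [39, 45]),
  ([24, 27], .perm [2, 1, 2, 3, 1, 2, 0, 1, 2, 0] [39, 45]),
  ([41], .perm [3, 2, 1, 2, 3] [47]),
  ([37], .perm [0, 1, 2, 3] [44]),
  ([33], .perm [0, 1, 2, 3, 1, 2, 1] [44]),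
  ([32], .perm [3, 2, 1, 0] [47]),
  ([30], .perm [3, 2, 1, 2, 3, 0] [47]),
  ([29], .perm [0, 1, 2, 1, 0] [44]),
  ([28], .perm [0, 1, 2, 3, 1, 0] [44]),
  ([27], .perm [0, 1, 2, 3, 1, 2, 0] [44]),
  ([25], .perm [3, 2, 1, 2, 3, 0, 1] [47]),
  ([24], .perm [3, 2, 1, 2, 0, 1, 2] [47])]

/-- The rank certificates. -/
def ranks : List (RankCert × RankCert) := [
  (⟨[0x8000000000000, 0x5, 0x10000000, 0x40000000, 0x200000000, 0x800000000, 0x1000000000, 0x10000000000, 0x40000000000, 0x80000000000, 0x100000000000, 0x400000000000, 0x800000000000, 0x1000000000000, 0x2000000000000, 0x4000000000000], [51, 2, 28, 30, 33, 35, 36, 40, 42, 43, 44, 46, 47, 48, 49, 50], [[3], [3, 4], [5], [6], [7], [8], [9], [11], [12], [13], [15], [19], [20], [22], [25], [27]], [[], [], [], [0], [0, 1], [2], [3], [4], [5], [6], [], [7], [8], [9], [], [10], [], [], [], [11], [12], [], [13], [], [], [14], [], [15], [], [], [], [], [], [], [],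 [], [], [], [], [], [], [], [], [], [], [], [], [], [], [], [], []]⟩,
    ⟨[0x200000000, 0x10000000000, 0x40000000000, 0x80000000000, 0x100000000000, 0x1000000000000], [33, 40, 42, 43, 44, 48], [[7], [11], [12], [13], [15], [22]], [[], [], [], [], [], [], [], [0], [], [], [], [1], [2], [3], [], [4], [], [], [], [], [], [], [5], [], [], [], [], [], [], [], [], [], [], [], [], [], [], [], [], [], [], [], [], [], [], [], [], [], [], [], [], []]⟩),
  (⟨[0x1000000000000, 0x200000400000, 0x400000800000, 0x800001000000, 0x2, 0x2000080000000, 0x4000100000000, 0x8000200000000, 0x2000000000, 0x4000000000, 0x8000000000, 0x10000000000, 0x20000000000, 0x40000000000, 0x80000000000, 0x100000000000], [48, 45, 46, 47, 1, 49, 50, 51, 37, 38, 39, 40, 41, 42, 43, 44], [[0], [4], [5], [6], [0, 7], [8], [9], [10], [11], [12], [13], [14], [15], [16], [17], [18]], [[0], [], [], [], [1], [2], [3], [0, 4], [5], [6], [7], [8], [9], [10],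 [11], [12], [13], [14], [15], [], [], [], [], [], [], [], [], [], [], [], [], [], [], [], [], [], [], [], [], [], [], [], [], [], [], [], [], [], [], [], [], []]⟩,
    ⟨[0x1000000000000, 0x2, 0x2000000000, 0x4000000000, 0x8000000000, 0x10000000000, 0x20000000000, 0x40000000000, 0x80000000000, 0x100000000000], [48, 1, 37, 38, 39, 40, 41, 42, 43, 44], [[0], [0, 7], [11], [12], [13], [14], [15], [16], [17], [18]], [[0], [], [], [], [], [], [], [0, 1], [], [], [], [2], [3], [4], [5], [6], [7], [8], [9], [], [], [], [], [], [], [], [], [], [], [], [], [], [], [], [], [], [], [], [], [], [], [], [], [], [], [], [], [], [], [], [], []]⟩),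
  (⟨[0x1000000000000, 0x8000000000000, 0x200000400005, 0x400010800000, 0x800041000000, 0x200000002, 0x2000880000000, 0x4001100000000, 0x2, 0x12000000000, 0x44000000000, 0x88000000000, 0x2000000000, 0x120000000000, 0x4000000000, 0x8000000000, 0x20000000000, 0x10800000, 0x41000000, 0x880000000, 0x1100000000], [48, 51, 45, 46, 47, 33, 49, 50, 1, 40, 42, 43, 37, 44, 38, 39, 41, 28, 30, 35, 36], [[0], [3], [0, 3, 4], [5], [6], [0, 7], [8], [9], [0, 3, 7, 10], [11], [12], [13], [11, 14], [15], [12, 16], [13, 17], [15, 18], [5, 19], [6, 20], [8, 25], [9, 27]], [[0], [], [], [1], [0, 1, 2], [3], [4], [0, 5], [6], [7], [1, 5, 8], [9], [10], [11], [9, 12], [13], [10, 14], [11, 15], [13, 16], [3, 17], [4, 18], [], [0], [], [], [6, 19], [], [7, 20], [], [], [], [], [], [], [], [], [], [], [], [], [], [], [], [], [], [], [], [], [], [], [], []]⟩,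
    ⟨[0x1000000000000, 0x200000002, 0x12000000000, 0x44000000000, 0x88000000000, 0x2000000000, 0x120000000000, 0x4000000000, 0x8000000000, 0x20000000000], [48, 33, 40, 42, 43, 37, 44, 38, 39, 41], [[0], [0, 7], [11], [12], [13], [11, 14], [15], [12, 16], [13, 17], [15, 18]], [[0], [], [], [], [], [], [], [0, 1], [], [], [], [2], [3], [4], [2, 5], [6], [3, 7], [4, 8], [6, 9], [], [], [], [0], [], [], [], [], [], [], [], [], [], [], [], [], [], [], [], [], [], [], [], [], [], [], [], [], [], [], [], [], []]⟩),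
  (⟨[0x80000000000, 0x2000000000000, 0x4020022002000, 0x8040044004000, 0x9, 0x100080020000, 0x1000040000, 0x400000000, 0x800000000, 0x1004001000000, 0x1, 0x20000000000, 0x40000000000, 0x100000000, 0x200000000, 0x80020000, 0x802000000000, 0x200000000000, 0x400000000000, 0x8000000000, 0x10000000000, 0x4001000000, 0x22002000, 0x44004000], [43, 49, 50, 51, 3, 44, 36, 34, 35, 48, 0, 41, 42, 32, 33, 31, 47, 45, 46, 39, 40, 38, 29, 30], [[1], [1, 2], [4], [5], [1, 2, 6], [7], [8], [9], [10], [11], [1, 12], [13], [14], [15], [16], [7, 17], [19], [20], [21], [22], [23], [11, 24], [4, 25], [5, 26]], [[], [0], [0, 1], [], [2], [3], [1, 4], [5], [6], [7], [8], [9], [0, 10], [11], [12], [13], [14], [5, 15], [], [16], [17], [18], [19], [20], [9, 21], [2, 22], [3, 23], [], [], [2, 11, 22], [3, 12, 23], [5, 15], [], [], [], [], [], [], [9, 21], [], [], [], [], [], [], [], [], [], [], [], [], []]⟩,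
    ⟨[0x80000000000, 0x100080020000, 0x1004001000000, 0x1, 0x20000000000, 0x40000000000, 0x100000000, 0x200000000, 0x80020000, 0x8000000000, 0x10000000000, 0x4001000000], [43, 44, 48, 0, 41, 42, 32, 33, 31, 39, 40, 38], [[1], [7], [11], [1, 12], [13], [14], [15], [16], [7, 17], [22], [23], [11, 24]], [[], [0], [], [], [], [], [], [1], [], [], [], [2], [0, 3], [4], [5], [6], [7], [1, 8], [], [], [], [], [9], [10], [2, 11], [], [], [], [], [], [], [1, 8], [], [], [], [], [], [], [2, 11], [], [], [], [], [], [], [], [], [], [], [], [], []]⟩)]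

/-- The certificate. -/
def cert : Cert := ⟨ks, moves, [[47], [44], [47, 44], [39, 45]], steps, 0x11fe381c7f883, ranks⟩

end CfsgLib.Chev.EvenInvol.F4Invol
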