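import Cfsg.Agent.Lib.Known.LacedInvol.Kill

/-!
# Removing coordinates in characteristic two, both root lengths

The reduction of an involution `v * x_p(t)` to the roots orthogonal to `p`, for all types with the
property that in characteristic two the only odd commutator term of `x_p` with a root below `p`
outside the orthogonal roots is the reflected one.
-/

set_option autoImplicit false
set_option synthInstance.maxSize 4000

namespace CfsgLib.Chev.EvenInvol

open Cfsg.Lie CfsgLib.Chev.LacedInvol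

universe v

variable {D : ChevalleyDatum} {co : ℕ → ℕ → ℤ} {F : Type v} [Field F]

/-- All commutator terms have even coefficient. -/
def EvenTerms (D : ChevalleyDatum) (r s : ℕ) : Prop := ∀ c ∈ D.commTerms r s, c.2.1 % 2 = 0

/-- The conditions in characteristic two read off from the tables. -/
structure Even (D : ChevalleyDatum) : Prop where
  term_neg : ∀ i < D.rank, ∀ s < D.nroots, D.nroots / 2 ≤ s → D.cartan i s < 0 →
    (∃ l₁ : List (ℕ × ℤ × ℕ × ℕ), ∃ c : ℤ, ∃ e : ℕ, ∃ l₂ : List (ℕ × ℤ × ℕ × ℕ),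
      D.commTerms (D.simple i) s = l₁ ++ (D.reflectRoot i s, c, e, 1) :: l₂ ∧ c % 2 = 1 ∧
      ∀ x ∈ l₁ ++ l₂, x.2.1 % 2 = 0 ∨ D.cartan i x.1 = 0) ∧
    EvenTerms D s (D.reflectRoot i s)
  term_nonneg : ∀ i < D.rank, ∀ s < D.nroots, D.nroots / 2 ≤ s → s ≠ D.simple i →
    0 ≤ D.cartan i s → EvenTerms D (D.simple i) s

/-- The lower root of a string in the direction of the `i`-th fundamental root. -/
def low2 (D : ChevalleyDatum) (i s : ℕ) : ℕ := if 0 < D.cartan i s then D.reflectRoot i s else s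

/-- The roots orthogonal to `p_i` and the strings from `k` on. -/
def Str (D : ChevalleyDatum) (co : ℕ → ℕ → ℤ) (J : Set ℕ) (i k s : ℕ) : Prop :=
  PosIn D co J s ∧ s ≠ D.simple i ∧ (D.cartan i s = 0 ∨ k ≤ low2 D i s)

variable (hF : Facts D co) (hC : CommF.{v} D) (hE : Even D)
include hF hC

theorem low2_spec {i : ℕ} (hi : i < D.rank) {J : Set ℕ} (hiJ : i ∈ J) {s : ℕ} (hs : s < D.nroots)
    (hsP : PosIn D co J s) (hne : s ≠ D.simple i) :
    low2 D i s < D.nroots ∧ PosIn D co J (low2 D i s) ∧ low2 D i s ≠ D.simple i ∧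
      omega D co (low2 D i s) = omega D co s -
        max (D.cartan i s) 0 * 64 ^ (D.rank - 1 - i) := by
  have _ := hC
  unfold low2
  split_ifs with h
  · have hp := hF.refl_pos i hi s hs hsP.1 hne
    have hlt := hF.refl_lt i hi s hs
    have hom : omega D co (D.reflectRoot i s) =
        omega D co s - D.cartan i s * 64 ^ (D.rank - 1 - i) := by
      have : ∀ l : List ℕ, l.Nodup → (∀ m ∈ l, m < D.rank) →
          (l.map fun m => co (D.reflectRoot i s) m * (64 : ℤ) ^ (D.rank - 1 - m)).sum =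
          (l.map fun m => co s m * (64 : ℤ) ^ (D.rank - 1 - m)).sum -
            (if i ∈ l then D.cartan i s * 64 ^ (D.rank - 1 - i) else 0) := by
        intro l
        induction l with
        | nil => simp
        | cons m l ih =>
          intro hnd hl
          rw [List.nodup_cons] at hnd
          simp only [List.map_cons, List.sum_cons]
          rw [ih hnd.2 (fun x hx => hl x (List.mem_cons_of_mem _ hx)),
            hF.co_refl i hi s hs m (hl m (by simp))]
          by_cases him : i = m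
          · subst him
            simp [hnd.1]
            ring
          · simp [him]
            ring
      have h2 := this (List.range D.rank) List.nodup_range (fun m hm => List.mem_range.1 hm)
      rw [if_pos (List.mem_range.2 hi)] at h2
      exact h2
    refine ⟨hlt, ⟨hp, fun m hm hmJ => ?_⟩, fun e => ?_, by rw [hom, max_eq_left h.le]⟩
    · rw [hF.co_refl i hi s hs m hm, if_neg (fun e => hmJ (by rw [← e]; exact hiJ)),
        hsP.2 m hm hmJ, sub_zero]
    · have h' := hF.cartan_refl i hi s hs i hi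
      rw [e, hF.cartan_simple hi] at h'
      omega
  · exact ⟨hs, hsP, hne, by rw [max_eq_right (not_lt.1 h)]; simp⟩

/-- The lower ends of the strings are superadditive. -/
theorem low2_lt (J : Set ℕ) {i : ℕ} (hi : i < D.rank) (hiJ : i ∈ J) {a b : ℕ} (ha : a < D.nroots)
    (hb : b < D.nroots) (haP : PosIn D co J a) (hane : a ≠ D.simple i) (hbP : PosIn D co J b)
    (hbne : b ≠ D.simple i) {c : ℕ × ℤ × ℕ × ℕ} (hc : c ∈ D.commTerms a b) (hab : a ≠ b) :
    low2 D i a < low2 D i c.1 ∧ low2 D i b < low2 D i c.1 := by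
  obtain ⟨hc1, j1, j2, -⟩ := co_term hF hC ha hb hc
  have hcP := posIn_term hF hC ha hb haP hbP hc
  have hcne : c.1 ≠ D.simple i :=
    (ne_simple_closed hF hC J hi a ha ⟨haP, hane⟩ b hb ⟨hbP, hbne⟩ hab c hc).2
  have hcar := (hF.commTerms_wt (hF.isWeight_cartan hi) ha hb hc).2.2.2
  have hom := (hF.commTerms_wt hF.isWeight_omega ha hb hc).2.2.2
  simp only [nsmul_eq_mul] at hcar hom
  obtain ⟨la, hla, -, oa⟩ := low2_spec hF hC hi hiJ ha haP hane
  obtain ⟨lb, hlb, -, ob⟩ := low2_spec hF hC hi hiJ hb hbP hbne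
  obtain ⟨lc, -, -, oc⟩ := low2_spec hF hC hi hiJ hc1 hcP hcne
  have pa := hF.omega_pos la hla.1
  have pb := hF.omega_pos lb hlb.1
  have k1 : (1 : ℤ) ≤ c.2.2.1 := by exact_mod_cast j1
  have k2 : (1 : ℤ) ≤ c.2.2.2 := by exact_mod_cast j2
  have hw : (0 : ℤ) ≤ 64 ^ (D.rank - 1 - i) := by positivity
  have hmax : max (D.cartan i c.1) 0 ≤
      c.2.2.1 * max (D.cartan i a) 0 + c.2.2.2 * max (D.cartan i b) 0 := by
    refine max_le ?_ (by positivity)
    rw [hcar]
    exact add_le_add (mul_le_mul_of_nonneg_left (le_max_left _ _) (by positivity))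
      (mul_le_mul_of_nonneg_left (le_max_left _ _) (by positivity))
  have hsum : c.2.2.1 * omega D co (low2 D i a) + c.2.2.2 * omega D co (low2 D i b) ≤
      omega D co (low2 D i c.1) := by
    rw [oc, oa, ob, hom]
    nlinarith [mul_le_mul_of_nonneg_right hmax hw]
  exact ⟨hF.lt_of_omega_lt la (by nlinarith), hF.lt_of_omega_lt lb (by nlinarith)⟩

theorem str_closed (J : Set ℕ) {i : ℕ} (hi : i < D.rank) (hiJ : i ∈ J) (k : ℕ) :
    ClosedS D (Str D co J i k) := by
  rintro a ha ⟨haP, hane, haS⟩ b hb ⟨hbP, hbne, hbS⟩ hab c hc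
  refine ⟨posIn_term hF hC ha hb haP hbP hc,
    (ne_simple_closed hF hC J hi a ha ⟨haP, hane⟩ b hb ⟨hbP, hbne⟩ hab c hc).2, ?_⟩
  by_cases hc0 : D.cartan i c.1 = 0
  · exact Or.inl hc0
  right
  obtain ⟨l1, l2⟩ := low2_lt hF hC J hi hiJ ha hb haP hane hbP hbne hc hab
  rcases haS with h | h
  · rcases hbS with h' | h'
    · refine absurd ?_ hc0
      have hcar := (hF.commTerms_wt (hF.isWeight_cartan hi) ha hb hc).2.2.2
      rw [hcar, h, h', smul_zero, smul_zero, add_zero]
    · omega
  · omega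

/-- A root whose string starts at `k` or later normalises the strings after `k`. -/
theorem norm_str (J : Set ℕ) {i : ℕ} (hi : i < D.rank) (hiJ : i ∈ J) {k r : ℕ}
    (hr : r < D.nroots) (hrP : PosIn D co J r) (hrne : r ≠ D.simple i) (hk : k ≤ low2 D i r)
    (b : F) {w : GL D.Idx F} (hw : w ∈ rootClosure D F (Str D co J i (k + 1))) :
    xU D r b * w * (xU D r b)⁻¹ ∈ rootClosure D F (Str D co J i (k + 1)) := by
  refine conj_closure (fun y hy => ?_) hw
  obtain ⟨s, a, hs, ⟨hsP, hsne, hsS⟩, rfl⟩ := hy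
  rw [hF.xU_inv hr]
  refine hF.conj_xU_mem hC hr hs (pos_ne_neg hF hr hrP.1 hsP.1) ⟨hsP, hsne, hsS⟩ ?_ b a
  intro hne c hc
  refine ⟨posIn_term hF hC hr hs hrP hsP hc,
    (ne_simple_closed hF hC J hi r hr ⟨hrP, hrne⟩ s hs ⟨hsP, hsne⟩ hne c hc).2, ?_⟩
  have := (low2_lt hF hC J hi hiJ hr hs hrP hrne hsP hsne hc hne).1
  exact Or.inr (by omega)

variable [CharP F 2]

omit hF hC in
theorem cast_even {m : ℤ} (h : m % 2 = 0) : (m : F) = 0 := by
  obtain ⟨q, hq⟩ : ∃ q, m = 2 * q := ⟨m / 2, by omega⟩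
  rw [hq]; push_cast; rw [CharTwo.two_eq_zero, zero_mul]

theorem commute_even {r s : ℕ} (hr : r < D.nroots) (hs : s < D.nroots) (hne : s ≠ r)
    (hneg : s ≠ D.neg r) (h : EvenTerms D r s) (t u : F) :
    Commute (xU D r t) (xU D s u) := by
  show _ = _
  rw [hF.xU_comm hC hr hs hne hneg t u]
  have : wU D (cwR D r s t u) = 1 := by
    refine List.prod_eq_one fun y hy => ?_
    obtain ⟨p, hp, rfl⟩ := List.mem_map.1 hy
    obtain ⟨c, hc, rfl⟩ := List.mem_map.1 hp
    show xU D c.1 _ = 1
    rw [cast_even (h c hc), zero_mul, zero_mul, hF.xU_zero (co_term hF hC hr hs hc).1]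
  rw [this, mul_one]

include hE

/-- The terms of `p_i` with a root whose string starts after `k` stay in the strings. -/
theorem term_simple_mem (J : Set ℕ) {i : ℕ} (hi : i < D.rank) (hiJ : i ∈ J) {k s : ℕ}
    (hs : s < D.nroots) (hsS : Str D co J i k s) (a b : F) :
    ∀ c ∈ D.commTerms (D.simple i) s,
      xU D c.1 ((c.2.1 : F) * (-a) ^ c.2.2.1 * b ^ c.2.2.2) ∈ rootClosure D F (Str D co J i k) := by
  obtain ⟨hsP, hsne, hsS'⟩ := hsS
  obtain ⟨hip, hin⟩ := hF.simple_lt i hi
  intro c hc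
  have hc1 := (co_term hF hC hin hs hc).1
  by_cases hev : c.2.1 % 2 = 0
  · rw [cast_even hev, zero_mul, zero_mul, hF.xU_zero hc1]
    exact Subgroup.one_mem _
  by_cases hneg : D.cartan i s < 0
  swap
  · exact absurd (hE.term_nonneg i hi s hs hsP.1 hsne (not_lt.1 hneg) c hc) hev
  refine xU_mem_rootClosure hc1 ⟨posIn_term hF hC hin hs ⟨hip, (hF.inSub_simple hi).2 hiJ⟩ hsP hc,
    fun e => ?_, ?_⟩ _
  · have := (hF.commTerms_lt hin hs hip hsP.1 hc).2.1
    omega
  obtain ⟨⟨l₁, m, e, l₂, hl, -, hrest⟩, -⟩ := hE.term_neg i hi s hs hsP.1 hneg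
  rw [hl, List.mem_append, List.mem_cons] at hc
  rcases hc with hc | rfl | hc
  · exact Or.inl ((hrest c (List.mem_append_left _ hc)).resolve_left hev)
  · refine Or.inr ?_
    rcases hsS' with h | h
    · omega
    have hc' : 0 < D.cartan i (D.reflectRoot i s) := by
      rw [hF.cartan_refl i hi s hs i hi, hF.cartan_simple hi]; omega
    rw [low2, if_pos hc', hF.refl_invol i hi s hs]
    rwa [low2, if_neg (by omega)] at h
  · exact Or.inl ((hrest c (List.mem_append_right _ hc)).resolve_left hev)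

/-- The fundamental root element normalises the strings from `k` on. -/
theorem norm_simple2 (J : Set ℕ) {i : ℕ} (hi : i < D.rank) (hiJ : i ∈ J) {k : ℕ}
    (b : F) {w : GL D.Idx F} (hw : w ∈ rootClosure D F (Str D co J i k)) :
    xU D (D.simple i) b * w * (xU D (D.simple i) b)⁻¹ ∈ rootClosure D F (Str D co J i k) := by
  obtain ⟨hip, hin⟩ := hF.simple_lt i hi
  refine conj_closure (fun y hy => ?_) hw
  obtain ⟨s, a, hs, hsS, rfl⟩ := hy
  rw [hF.xU_inv hin, mul_assoc, hF.xU_comm hC hin hs hsS.2.1 (pos_ne_neg hF hin hip hsS.1.1),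
    ← mul_assoc, ← mul_assoc, hF.xU_add hin, add_neg_cancel, hF.xU_zero hin, one_mul]
  refine Subgroup.mul_mem _ (xU_mem_rootClosure hs hsS a) (wU_mem fun p hp => ?_)
  obtain ⟨c, hc, rfl⟩ := List.mem_map.1 hp
  exact term_simple_mem hF hC hE J hi hiJ hs hsS (-b) a c hc

/-- An involution `v * x_p(t)` is conjugate to one supported on the roots orthogonal to `p`. -/
theorem kill2 (J : Set ℕ) {i : ℕ} (hi : i < D.rank) (hiJ : i ∈ J) {t : F} (ht : t ≠ 0) :
    ∀ n k, k + n = D.nroots → ∀ v ∈ rootClosure D F (Str D co J i k),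
      (v * xU D (D.simple i) t) * (v * xU D (D.simple i) t) = 1 →
      ∃ g ∈ rootClosure D F (InSub D co J), ∃ v' ∈ rootClosure D F
        (fun s => PosIn D co J s ∧ s ≠ D.simple i ∧ D.cartan i s = 0),
        g * (v * xU D (D.simple i) t) * g⁻¹ = v' * xU D (D.simple i) t := by
  intro n
  induction n with
  | zero =>
    intro k hk v hv _
    refine ⟨1, Subgroup.one_mem _, v,
      rootClosure_mono (fun s hs h => ⟨h.1, h.2.1, ?_⟩) hv, by group⟩
    refine h.2.2.resolve_right fun hlow => ?_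
    have := (low2_spec hF hC hi hiJ hs h.1 h.2.1).1
    omega
  | succ n ih =>
    intro k hk v hv hu
    by_cases hex : PosIn D co J k ∧ k ≠ D.simple i ∧ D.cartan i k < 0
    swap
    · refine ih (k + 1) (by omega) v (rootClosure_mono (fun s hs h => ⟨h.1, h.2.1, ?_⟩) hv) hu
      rcases h.2.2 with h0 | h0
      · exact Or.inl h0
      · by_cases hz : D.cartan i s = 0
        · exact Or.inl hz
        refine Or.inr (Nat.lt_of_le_of_ne h0 fun e => hex ?_)
        obtain ⟨-, h1, h2, -⟩ := low2_spec hF hC hi hiJ hs h.1 h.2.1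
        rw [← e] at h1 h2
        refine ⟨h1, h2, ?_⟩
        rw [e]
        unfold low2
        split_ifs with hp
        · rw [hF.cartan_refl i hi s hs i hi, hF.cartan_simple hi]; omega
        · omega
    obtain ⟨hkP, hkne, hkc⟩ := hex
    have hkN : k < D.nroots := by omega
    obtain ⟨hip, hin⟩ := hF.simple_lt i hi
    set k' := D.reflectRoot i k with hk'
    have hk'N : k' < D.nroots := hF.refl_lt i hi k hkN
    have hk'c : 0 < D.cartan i k' := by
      rw [hk', hF.cartan_refl i hi k hkN i hi, hF.cartan_simple hi]; omega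
    have hk'P : PosIn D co J k' := ⟨hF.refl_pos i hi k hkN hkP.1 hkne, fun j hj hjJ => by
      rw [hk', hF.co_refl i hi k hkN j hj, if_neg (fun h => hjJ (by rw [← h]; exact hiJ)),
        hkP.2 j hj hjJ, sub_zero]⟩
    have hlk' : low2 D i k' = k := by rw [low2, if_pos hk'c, hk', hF.refl_invol i hi k hkN]
    have hk'ne : k' ≠ D.simple i := fun h => by
      have h1 := hF.refl_invol i hi k hkN
      rw [← hk', h, hF.refl_simple hi] at h1
      have := (hF.neg_lt_half hin).not.2 (by omega)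
      have := hkP.1
      omega
    have hlk : low2 D i k = k := by rw [low2, if_neg (by omega)]
    have hkk : k' ≠ k := fun h => by rw [h] at hk'c; omega
    obtain ⟨⟨l₁, m, e₀, l₂, hterm, hm, hrest⟩, hswap⟩ := hE.term_neg i hi k hkN hkP.1 hkc
    rw [← hk'] at hterm hswap
    -- split off the two coordinates
    obtain ⟨v1, hv1, c1, hc1, rfl⟩ := hF.closure_split hC (A := Str D co J i k)
      (Q₁ := fun s => Str D co J i k s ∧ s ≠ k) (Q₂ := (· = k))
      (fun s _ h => (em (s = k)).elim Or.inr fun h' => Or.inl ⟨h, h'⟩)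
      (by
        rintro a ha rfl b hb ⟨hbS, -⟩
        refine ⟨pos_ne_neg hF ha hkP.1 hbS.1.1, fun hne c hc => ⟨str_closed hF hC J hi hiJ a
          a ha ⟨hkP, hkne, Or.inr hlk.ge⟩ b hb hbS hne c hc, ?_⟩⟩
        have := (hF.commTerms_lt ha hb hkP.1 hbS.1.1 hc).2.1
        omega) hv
    obtain ⟨w, hw, d1, hd1, rfl⟩ := hF.closure_split hC (A := fun s => Str D co J i k s ∧ s ≠ k)
      (Q₁ := Str D co J i (k + 1)) (Q₂ := (· = k'))
      (by
        rintro s hs ⟨⟨hsP, hsne, hsS⟩, hne⟩
        rcases hsS with h | h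
        · exact Or.inl ⟨hsP, hsne, Or.inl h⟩
        rcases Nat.lt_or_eq_of_le h with h | h
        · exact Or.inl ⟨hsP, hsne, Or.inr h⟩
        by_cases e : 0 < D.cartan i s
        · rw [low2, if_pos e] at h
          exact Or.inr (by rw [hk', h, hF.refl_invol i hi s hs])
        · rw [low2, if_neg e] at h
          exact absurd h.symm hne)
      (by
        rintro a ha rfl b hb hbS
        refine ⟨pos_ne_neg hF ha hk'P.1 hbS.1.1, fun hne c hc => ⟨posIn_term hF hC ha hb hk'P hbS.1 hc,
          (ne_simple_closed hF hC J hi _ ha ⟨hk'P, hk'ne⟩ b hb ⟨hbS.1, hbS.2.1⟩ hne c hc).2, ?_⟩⟩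
        have := (low2_lt hF hC J hi hiJ ha hb hk'P hk'ne hbS.1 hbS.2.1 hc hne).1
        exact Or.inr (by omega)) hv1
    obtain ⟨d, rfl⟩ : ∃ d, d1 = xU D k' d :=
      (hF.mem_rootSubgroup_iff hk'N).1 (by rw [hF.rootSubgroup_eq hk'N]; exact hd1)
    obtain ⟨e, rfl⟩ : ∃ e, c1 = xU D k e :=
      (hF.mem_rootSubgroup_iff hkN).1 (by rw [hF.rootSubgroup_eq hkN]; exact hc1)
    set N := rootClosure D F (Str D co J i (k + 1)) with hN
    have hnk : ∀ a : F, ∀ y ∈ N, xU D k a * y * (xU D k a)⁻¹ ∈ N := fun a y hy =>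
      norm_str hF hC J hi hiJ hkN hkP hkne hlk.ge a hy
    have hnk' : ∀ a : F, ∀ y ∈ N, xU D k' a * y * (xU D k' a)⁻¹ ∈ N := fun a y hy =>
      norm_str hF hC J hi hiJ hk'N hk'P hk'ne hlk'.ge a hy
    -- the commutation rules
    have hm1 : (m : F) = 1 := by
      obtain ⟨q, hq⟩ : ∃ q, m = 2 * q + 1 := ⟨m / 2, by omega⟩
      rw [hq]; push_cast; rw [CharTwo.two_eq_zero, zero_mul, zero_add]
    have hkx : ∀ a : F, ∃ z ∈ N, xU D k a * xU D (D.simple i) t =
        xU D (D.simple i) t * xU D k a * (xU D k' (t ^ e₀ * a) * z) := fun a => by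
      have hmem : ∀ l : List (ℕ × ℤ × ℕ × ℕ), (∀ x ∈ l, x ∈ l₁ ++ l₂) →
          wU D (l.map fun c => (c.1, (c.2.1 : F) * (-t) ^ c.2.2.1 * a ^ c.2.2.2)) ∈ N := by
        intro l hl
        refine wU_mem fun p hp => ?_
        obtain ⟨x, hx, rfl⟩ := List.mem_map.1 hp
        have hxm : x ∈ D.commTerms (D.simple i) k := by
          rw [hterm]
          rcases List.mem_append.1 (hl x hx) with h' | h'
          · exact List.mem_append_left _ h'
          · exact List.mem_append_right _ (List.mem_cons_of_mem _ h')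
        have hx1 := (co_term hF hC hin hkN hxm).1
        rcases hrest x (hl x hx) with h' | h'
        · show xU D x.1 _ ∈ N
          rw [cast_even h', zero_mul, zero_mul, hF.xU_zero hx1]
          exact Subgroup.one_mem _
        · refine xU_mem_rootClosure hx1
            ⟨posIn_term hF hC hin hkN ⟨hip, (hF.inSub_simple hi).2 hiJ⟩ hkP hxm, fun e' => ?_,
              Or.inl h'⟩ _
          have := (hF.commTerms_lt hin hkN hip hkP.1 hxm).2.1
          omega
      set n1 := wU D (l₁.map fun c => (c.1, (c.2.1 : F) * (-t) ^ c.2.2.1 * a ^ c.2.2.2)) with hn1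
      set n2 := wU D (l₂.map fun c => (c.1, (c.2.1 : F) * (-t) ^ c.2.2.1 * a ^ c.2.2.2)) with hn2
      set y := xU D k' (t ^ e₀ * a) with hy
      refine ⟨y⁻¹ * n1 * y * n2, Subgroup.mul_mem _ ?_ (hmem l₂ fun x hx =>
        List.mem_append_right _ hx), ?_⟩
      · have := hnk' (-(t ^ e₀ * a)) n1 (hmem l₁ fun x hx => List.mem_append_left _ hx)
        rwa [← hF.xU_inv hk'N, inv_inv] at this
      · rw [hF.xU_comm hC hin hkN hkne (pos_ne_neg hF hin hip hkP.1) t a]
        have : wU D (cwR D (D.simple i) k t a) = n1 * (y * n2) := by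
          rw [hn1, hn2, hy]
          simp [cwR, hterm, wU, hm1, CharTwo.neg_eq]
        rw [this]
        group
    have hcomm : ∀ a b : F, xU D k b * xU D k' a = xU D k' a * xU D k b := fun a b =>
      (commute_even hF hC hkN hk'N hkk (pos_ne_neg hF hkN hkP.1 hk'P.1) hswap b a).eq
    have hk'x : ∀ a : F, xU D k' a * xU D (D.simple i) t = xU D (D.simple i) t * xU D k' a :=
      fun a => (commute_even hF hC hin hk'N hk'ne (pos_ne_neg hF hin hip hk'P.1)
        (hE.term_nonneg i hi k' hk'N hk'P.1 hk'ne hk'c.le) t a).symm.eq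
    set X := xU D (D.simple i) t with hX
    have hXX : X * X = 1 := xU_self hF hin t
    have hXi : X⁻¹ = X := inv_eq_of_mul_eq_one_right hXX
    -- the square
    set q := xU D k' d * xU D k e with hq
    have hqq : q * q = 1 := by
      rw [hq, show xU D k' d * xU D k e * (xU D k' d * xU D k e) =
        xU D k' d * (xU D k e * xU D k' d) * xU D k e by group, hcomm, ← mul_assoc, xU_self hF hk'N,
        one_mul, xU_self hF hkN]
    have hqi : q⁻¹ = q := inv_eq_of_mul_eq_one_right hqq
    have hw' : X * w * X ∈ N := by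
      have := norm_simple2 hF hC hE J hi hiJ t hw
      rwa [← hX, hXi] at this
    have hqn : q * (X * w * X) * q ∈ N := by
      have h2 := hnk' d _ (hnk e _ hw')
      have : xU D k' d * (xU D k e * (X * w * X) * (xU D k e)⁻¹) * (xU D k' d)⁻¹ =
          q * (X * w * X) * q⁻¹ := by rw [hq]; group
      rwa [this, hqi] at h2
    obtain ⟨z, hz, hze⟩ := hkx e
    have hxkx : X * xU D k e * X = xU D k e * (xU D k' (t ^ e₀ * e) * z) := by
      rw [mul_assoc, hze]
      simp only [← mul_assoc, hXX, one_mul]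
    have key : w * (q * (X * w * X) * q) * (xU D k' (t ^ e₀ * e) * z) = 1 := by
      rw [← hu]
      calc w * (q * (X * w * X) * q) * (xU D k' (t ^ e₀ * e) * z)
          = w * q * (X * w * X) * (xU D k' d * (xU D k e * (xU D k' (t ^ e₀ * e) * z))) := by
            rw [hq]; simp only [mul_assoc]
        _ = w * q * X * w * (X * xU D k' d) * (X * xU D k e * X) := by
            rw [← hxkx]; simp only [mul_assoc]
        _ = w * q * X * w * (xU D k' d * X) * (X * xU D k e * X) := by rw [hk'x]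
        _ = w * q * X * w * xU D k' d * (X * X) * xU D k e * X := by simp only [mul_assoc]
        _ = w * xU D k' d * xU D k e * X * (w * xU D k' d * xU D k e * X) := by
            rw [hXX, hq]; simp only [mul_assoc, one_mul]
    have hte : t ^ e₀ * e = 0 := by
      have hmem : xU D k' (t ^ e₀ * e) ∈ N := by
        have h1 := Subgroup.mul_mem _ hw hqn
        have h2 : xU D k' (t ^ e₀ * e) = (w * (q * (X * w * X) * q))⁻¹ * z⁻¹ := by
          rw [eq_mul_inv_iff_mul_eq, eq_inv_iff_mul_eq_one]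
          exact mul_eq_one_comm.1 key
        rw [h2]
        exact Subgroup.mul_mem _ (Subgroup.inv_mem _ h1) (Subgroup.inv_mem _ hz)
      refine hF.xU_eq_zero_of_ut hk'N hk'P.1 (hF.above_ut hk'N hk'P.1 ?_)
      refine not_mem hF hC (fun s _ h => h.1.1) (str_closed hF hC J hi hiJ (k + 1)) hk'N
        hk'P.1 (fun h => ?_) hmem (xU_mem_rootClosure (P := (k' ≤ ·)) hk'N le_rfl _)
      rcases h.2.2 with h' | h' <;> omega
    obtain rfl : e = 0 := (mul_eq_zero.1 hte).resolve_left (pow_ne_zero _ ht)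
    rw [hF.xU_zero hkN, mul_one] at hu ⊢
    -- conjugate the upper coordinate away
    set y := xU D k (d / t ^ e₀) with hy
    obtain ⟨z', hz', hze'⟩ := hkx (d / t ^ e₀)
    set y' := xU D k' d with hy'
    rw [mul_div_cancel₀ d (pow_ne_zero _ ht), ← hy, ← hy'] at hze'
    have hyy : y * y' = y' * y := hcomm _ _
    have hyX : y * X * y⁻¹ = y' * (X * (y * z' * y⁻¹) * X⁻¹) * X := by
      calc y * X * y⁻¹ = X * y * (y' * z') * y⁻¹ := by rw [hze']
        _ = X * (y * y') * (z' * y⁻¹) := by group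
        _ = (X * y') * (y * z' * y⁻¹) := by rw [hyy]; group
        _ = (y' * X) * (y * z' * y⁻¹) := by rw [← hk'x]
        _ = _ := by group
    have hz'' : X * (y * z' * y⁻¹) * X⁻¹ ∈ N := norm_simple2 hF hC hE J hi hiJ t (hnk _ _ hz')
    have e1 : y * (w * y' * X) * y⁻¹ = y * w * y⁻¹ * (X * (y * z' * y⁻¹) * X⁻¹) * X := by
      calc y * (w * y' * X) * y⁻¹
          = y * w * y⁻¹ * (y * y' * y⁻¹) * (y * X * y⁻¹) := by group
        _ = y * w * y⁻¹ * (y' * y') * (X * (y * z' * y⁻¹) * X⁻¹) * X := by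
            rw [hyX, hyy, mul_inv_cancel_right]; simp only [mul_assoc]
        _ = _ := by rw [hy', xU_self hF hk'N, mul_one]
    have hw2 : y * w * y⁻¹ * (X * (y * z' * y⁻¹) * X⁻¹) ∈ N :=
      Subgroup.mul_mem _ (hnk _ _ hw) hz''
    obtain ⟨g, hg, v', hv', e2⟩ := ih (k + 1) (by omega) _ hw2 (by
      rw [← e1, show ∀ a b : GL D.Idx F, a * b * a⁻¹ * (a * b * a⁻¹) = a * (b * b) * a⁻¹ from
        fun a b => by group, hu, mul_one, mul_inv_cancel])
    refine ⟨g * y, Subgroup.mul_mem _ hg (xU_mem_rootClosure hkN hkP.2 _), v', hv', ?_⟩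
    rw [← e2, ← e1]
    group

end CfsgLib.Chev.EvenInvol
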