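import Cfsg.Agent.Lib.Known.EvenInvol.Classes
import Cfsg.Agent.Lib.Known.ChevG2Centralizer

/-!
# Products of root elements of pairwise free roots

The coroot rows of such a product give all its parameters, and a Bruhat decomposition of an element
centralising a conjugate of such a product is constrained accordingly.
-/

set_option autoImplicit false
set_option synthInstance.maxSize 4000

namespace CfsgLib.Chev.EvenInvol

open Cfsg.Lie CfsgLib.Chev.Table CfsgLib.Chev.LacedInvol

universe v

/-- Two roots which are not opposite and whose sum is not a root. -/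
def freeB (T : Tab) (a b : ℕ) : Bool :=
  !Nat.beq a b && !Nat.beq a (T.neg b) && Nat.beq (T.ent a b) 0 && Nat.beq (T.ent b a) 0

/-- Freeness is invariant under the fundamental reflections. -/
def freeReflT (T : Tab) : Bool :=
  allBelow T.nroots fun a => allBelow T.nroots fun b =>
    bif freeB T a b then allBelow T.rank fun i => freeB T (T.refl i a) (T.refl i b) else true

/-- No string in the direction of a free root ends in the opposite of the other one. -/
def freeRowT (T : Tab) : Bool :=
  allBelow T.nroots fun p => allBelow T.nroots fun q =>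
    bif freeB T p q then allBelow T.nroots fun s =>
      (T.gen q s).all fun c => !Nat.beq c.1 (T.neg p)
    else true

/-- The product of root elements with given parameters. -/
noncomputable def PF (D : ChevalleyDatum) {F : Type v} [Field F] (L : List ℕ) (f : ℕ → F) :
    GL D.Idx F :=
  (L.map fun r => xU D r (f r)).prod

section

variable {D : ChevalleyDatum} {T : Tab} {F : Type v} [Field F]
variable (hF : Facts D T.co) (hA : T.chkArrays D = true) (hCh : T.chkChain D = true)
include hF hA hCh

theorem rowFix_of_free (hrow : freeRowT T = true) {p q : ℕ} (hp : p < D.nroots) (hq : q < D.nroots)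
    (h : freeB T p q = true) : RowFix D p q := by
  have hn := nroots_eq hA
  have h' := h
  simp only [freeB, Bool.and_eq_true, Bool.not_eq_true'] at h'
  obtain ⟨⟨⟨h1, h2⟩, -⟩, -⟩ := h'
  refine ⟨fun e => ?_, fun e => ?_, fun s hs k hk hk1 e => ?_⟩
  · rw [e] at h1; simp at h1
  · rw [neg_eq hA hq] at e; rw [e] at h2; simp at h2
  · rw [ChevalleyDatum.chainRoot, chainEntry_eq hA hCh hq hs, neg_eq hA hp] at e
    obtain ⟨c, hc, hce⟩ := Option.map_eq_some_iff.1 e
    have h3 := allBelow_spec (allBelow_spec hrow p (hn ▸ hp)) q (hn ▸ hq)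
    rw [h, cond_true] at h3
    have h4 := List.all_eq_true.1 (allBelow_spec h3 s (hn ▸ hs)) c (List.mem_of_getElem? hc)
    rw [hce] at h4
    simp at h4

theorem free_sW (hrefl : freeReflT T = true) (l : List (Fin D.rank)) :
    ∀ a b : Fin D.nroots, freeB T a.val b.val = true →
      freeB T (sW D l a).val (sW D l b).val = true := by
  induction l with
  | nil => exact fun a b h => h
  | cons j l ih =>
    intro a b h
    have h1 := allBelow_spec (allBelow_spec hrefl (sW D l a).val (by
      rw [← nroots_eq hA]; exact (sW D l a).isLt)) (sW D l b).val (by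
      rw [← nroots_eq hA]; exact (sW D l b).isLt)
    rw [ih a b h, cond_true] at h1
    have h2 := allBelow_spec h1 j.val (by rw [← rank_eq hA]; exact j.isLt)
    simp only [sW_cons, Equiv.Perm.mul_apply, hF.sP_val]
    rwa [reflect_eq hA hCh j.isLt (sW D l a).isLt, reflect_eq hA hCh j.isLt (sW D l b).isLt]

omit hA hCh in
theorem pf_row_neg {p : ℕ} (hp : p < D.nroots) :
    ∀ L : List ℕ, (∀ q ∈ L, q < D.nroots ∧ RowFix D p q) → ∀ f : ℕ → F, ∀ b : D.Idx,
      ((PF D L f : GL D.Idx F) : Matrix D.Idx D.Idx F) (Sum.inr ⟨D.neg p, hF.neg_lt hp⟩) b =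
        (1 : Matrix D.Idx D.Idx F) (Sum.inr ⟨D.neg p, hF.neg_lt hp⟩) b := by
  intro L
  induction L with
  | nil => intro _ f b; simp [PF]
  | cons q L ih =>
    intro hL f b
    obtain ⟨hq, hR⟩ := hL q (by simp)
    rw [show PF D (q :: L) f = xU D q (f q) * PF D L f by simp [PF], Units.val_mul, hF.xU_val' hq,
      Matrix.mul_apply]
    simp only [hF.xR_row_neg hp hq hR, Matrix.one_apply, ite_mul, one_mul, zero_mul]
    rw [Finset.sum_ite_eq, if_pos (Finset.mem_univ _),
      ih (fun x hx => hL x (List.mem_cons_of_mem _ hx)) f b, Matrix.one_apply]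

omit hA hCh in
theorem pf_entry : ∀ L : List ℕ, (∀ q ∈ L, q < D.nroots) →
    L.Pairwise (fun p q => RowFix D p q) → ∀ f : ℕ → F, ∀ (i : Fin D.rank) (m : Fin D.nroots),
      ((PF D L f : GL D.Idx F) : Matrix D.Idx D.Idx F) (Sum.inl i) (Sum.inr m) =
        (L.map fun q => if m.val = D.neg q then f q * (cor D q i.val : F) else 0).sum := by
  intro L
  induction L with
  | nil => intro _ _ f i m; simp [PF]
  | cons q L ih =>
    intro hL hpw f i m
    have hq := hL q (by simp)
    rw [List.pairwise_cons] at hpw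
    rw [show PF D (q :: L) f = xU D q (f q) * PF D L f by simp [PF], Units.val_mul, hF.xU_val' hq,
      Matrix.mul_apply]
    simp only [xR_row_inl, add_mul, Finset.sum_add_distrib, Matrix.one_apply, ite_mul, one_mul,
      zero_mul]
    rw [Finset.sum_ite_eq, if_pos (Finset.mem_univ _),
      Finset.sum_eq_single (Sum.inr ⟨D.neg q, hF.neg_lt hq⟩)]
    · rw [ih (fun x hx => hL x (List.mem_cons_of_mem _ hx)) hpw.2 f i m, List.map_cons,
        List.sum_cons, pf_row_neg hF hq L (fun x hx =>
          ⟨hL x (List.mem_cons_of_mem _ hx), hpw.1 x hx⟩) f, Matrix.one_apply, adRoot_inl_inr]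
      by_cases hm : m.val = D.neg q
      · rw [if_pos (congrArg Sum.inr (Fin.ext hm.symm))]
        simp [hm]
        ring
      · rw [if_neg fun e => hm (congrArg Fin.val (Sum.inr_injective e)).symm]
        simp [hm]
    · intro x _ hne
      rcases x with j | u
      · simp [adRoot_inl_inl]
      · have : u.val ≠ D.neg q := fun e => hne (congrArg Sum.inr (Fin.ext e))
        simp [adRoot_inl_inr, this]
    · simp

omit hA hCh in
/-- A root with nonzero parameter on one side occurs on the other side. -/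
theorem pf_mem {L L' : List ℕ} (hL : ∀ q ∈ L, q < D.nroots) (hL' : ∀ q ∈ L', q < D.nroots)
    (hp : L.Pairwise fun p q => RowFix D p q) (hp' : L'.Pairwise fun p q => RowFix D p q)
    {f f' : ℕ → F} (h : PF D L f = PF D L' f') {r : ℕ} (hr : r ∈ L) (hne : f r ≠ 0) : r ∈ L' := by
  by_contra hr'
  obtain ⟨i, hi, hc⟩ := hF.exists_cor_ne (F := F) (hL r hr)
  have h1 := congrArg (fun g : GL D.Idx F => (g : Matrix D.Idx D.Idx F) (Sum.inl ⟨i, hi⟩)
    (Sum.inr ⟨D.neg r, hF.neg_lt (hL r hr)⟩)) h
  simp only [pf_entry hF L hL hp, pf_entry hF L' hL' hp'] at h1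
  have hinj : ∀ q, q < D.nroots → D.neg r = D.neg q → r = q := fun q hq e => by
    rw [← hF.neg_neg (hL r hr), e, hF.neg_neg hq]
  rw [List.sum_eq_zero (l := List.map _ L') fun x hx => by
    obtain ⟨q, hq, rfl⟩ := List.mem_map.1 hx
    rw [if_neg fun e => hr' (by rw [hinj q (hL' q hq) e]; exact hq)]] at h1
  have hnd : L.Nodup := hp.imp fun e => e.1
  have hz : ∀ q ∈ L, q ≠ r → (if D.neg r = D.neg q then f q * (cor D q i : F) else 0) = 0 :=
    fun q hq hne => if_neg fun e => hne (hinj q (hL q hq) e).symm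
  rw [← List.sum_toFinset _ hnd, Finset.sum_eq_single_of_mem r (List.mem_toFinset.2 hr)
    (fun q hq hne => hz q (List.mem_toFinset.1 hq) hne), if_pos rfl] at h1
  exact (mul_eq_zero.1 h1).elim hne hc

omit hA hCh in
/-- The parameters are unique. -/
theorem pf_inj {L : List ℕ} (hL : ∀ q ∈ L, q < D.nroots)
    (hp : L.Pairwise fun p q => RowFix D p q) {f f' : ℕ → F} (h : PF D L f = PF D L f')
    {r : ℕ} (hr : r ∈ L) : f r = f' r := by
  obtain ⟨i, hi, hc⟩ := hF.exists_cor_ne (F := F) (hL r hr)
  have h1 := congrArg (fun g : GL D.Idx F => (g : Matrix D.Idx D.Idx F) (Sum.inl ⟨i, hi⟩)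
    (Sum.inr ⟨D.neg r, hF.neg_lt (hL r hr)⟩)) h
  simp only [pf_entry hF L hL hp] at h1
  have hnd : L.Nodup := hp.imp fun e => e.1
  have hinj : ∀ q, q ∈ L → q ≠ r → ¬ D.neg r = D.neg q := fun q hq hne e =>
    hne (by rw [← hF.neg_neg (hL q hq), ← e, hF.neg_neg (hL r hr)])
  rw [← List.sum_toFinset _ hnd, ← List.sum_toFinset _ hnd,
    Finset.sum_eq_single_of_mem r (List.mem_toFinset.2 hr)
      (fun q hq hne => if_neg (hinj q (List.mem_toFinset.1 hq) hne)),
    Finset.sum_eq_single_of_mem r (List.mem_toFinset.2 hr)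
      (fun q hq hne => if_neg (hinj q (List.mem_toFinset.1 hq) hne)), if_pos rfl, if_pos rfl] at h1
  exact mul_right_cancel₀ hc h1

omit hA hCh in
theorem pf_congr {L : List ℕ} {f f' : ℕ → F} (h : ∀ q ∈ L, f q = f' q) : PF D L f = PF D L f' := by
  have _ := hF
  exact congrArg List.prod (List.map_congr_left fun q hq => by rw [h q hq])

omit hA hCh in
theorem pf_add {L : List ℕ} (hL : ∀ q ∈ L, q < D.nroots)
    (hc : ∀ r ∈ L, ∀ s ∈ L, ∀ a b : F, Commute (xU D r a) (xU D s b)) (f f' : ℕ → F) :
    PF D L f * PF D L f' = PF D L fun q => f q + f' q := by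
  induction L with
  | nil => simp [PF]
  | cons q L ih =>
    have ih' := ih (fun x hx => hL x (List.mem_cons_of_mem _ hx))
      (fun r hr s hs => hc r (List.mem_cons_of_mem _ hr) s (List.mem_cons_of_mem _ hs))
    have hq : Commute (PF D L f) (xU D q (f' q)) := Commute.list_prod_left _ _ fun x hx => by
      obtain ⟨s, hs, rfl⟩ := List.mem_map.1 hx
      exact hc s (List.mem_cons_of_mem _ hs) q (by simp) _ _
    have e : ∀ g : ℕ → F, PF D (q :: L) g = xU D q (g q) * PF D L g := fun g => by simp [PF]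
    rw [e, e, e, ← ih', ← hF.xU_add (hL q (by simp)),
      show xU D q (f q) * PF D L f * (xU D q (f' q) * PF D L f') =
        xU D q (f q) * (PF D L f * xU D q (f' q)) * PF D L f' by group, hq.eq]
    group

omit hA hCh in
theorem pf_single {L : List ℕ} (hL : ∀ q ∈ L, q < D.nroots) (hnd : L.Nodup) {r : ℕ} (hr : r ∈ L)
    (a : F) : PF D L (fun q => if q = r then a else 0) = xU D r a := by
  induction L with
  | nil => simp at hr
  | cons q L ih =>
    rw [List.nodup_cons] at hnd
    rw [show PF D (q :: L) (fun x => if x = r then a else 0) =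
      xU D q (if q = r then a else 0) * PF D L (fun x => if x = r then a else 0) by simp [PF]]
    by_cases hqr : q = r
    · subst hqr
      rw [if_pos rfl, show PF D L (fun x => if x = q then a else 0) = 1 from List.prod_eq_one
        fun x hx => by
          obtain ⟨s, hs, rfl⟩ := List.mem_map.1 hx
          show xU D s (if s = q then a else 0) = 1
          rw [if_neg fun e => hnd.1 (by rw [← e]; exact hs),
            hF.xU_zero (hL s (List.mem_cons_of_mem _ hs))], mul_one]
    · rw [if_neg hqr, hF.xU_zero (hL q (by simp)), one_mul,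
        ih (fun x hx => hL x (List.mem_cons_of_mem _ hx)) hnd.2
          ((List.mem_cons.1 hr).resolve_left (Ne.symm hqr))]

omit hA hCh in
/-- An element of the closure of pairwise commuting root subgroups is a product. -/
theorem exists_pf {L : List ℕ} (hL : ∀ q ∈ L, q < D.nroots) (hnd : L.Nodup)
    (hc : ∀ r ∈ L, ∀ s ∈ L, ∀ a b : F, Commute (xU D r a) (xU D s b))
    {g : GL D.Idx F} (hg : g ∈ rootClosure D F (· ∈ L)) : ∃ f : ℕ → F, g = PF D L f := by
  have h0 : PF D L (fun _ => (0 : F)) = 1 := List.prod_eq_one fun x hx => by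
    obtain ⟨s, hs, rfl⟩ := List.mem_map.1 hx
    exact hF.xU_zero (hL s hs)
  induction hg using Subgroup.closure_induction with
  | mem x hx =>
    obtain ⟨r, a, -, hr, rfl⟩ := hx
    exact ⟨_, (pf_single hF hL hnd hr a).symm⟩
  | one => exact ⟨_, h0.symm⟩
  | mul x y _ _ hx hy =>
    obtain ⟨f, rfl⟩ := hx
    obtain ⟨f', rfl⟩ := hy
    exact ⟨_, pf_add hF hL hc f f'⟩
  | inv x _ hx =>
    obtain ⟨f, rfl⟩ := hx
    refine ⟨fun q => -f q, inv_eq_of_mul_eq_one_right ?_⟩
    rw [pf_add hF hL hc, pf_congr hF (f' := fun _ => (0 : F)) fun q _ => add_neg_cancel (f q), h0]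

omit hA hCh in
/-- Conjugation of a product by a monomial element. -/
theorem pf_conj {n : GL D.Idx F} {σ : Equiv.Perm (Fin D.nroots)} (hn : PermAct n σ) :
    ∀ (L : List ℕ) (hL : ∀ q ∈ L, q < D.nroots) (f : ℕ → F), L.Nodup →
      ∃ f' : ℕ → F, n * PF D L f * n⁻¹ =
          PF D (L.pmap (fun q h => (σ ⟨q, h⟩).val) hL) f' ∧
        ∀ q (h : q ∈ L), f q ≠ 0 → f' (σ ⟨q, hL q h⟩).val ≠ 0 := by
  classical
  intro L
  induction L with
  | nil => intro hL f _; exact ⟨f, by simp [PF], by simp⟩
  | cons q L ih =>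
    intro hL f hnd
    rw [List.nodup_cons] at hnd
    obtain ⟨f', he, hf'⟩ := ih (fun x hx => hL x (List.mem_cons_of_mem _ hx)) f hnd.2
    obtain ⟨c, hc0, hc, -⟩ := hn ⟨q, hL q (by simp)⟩
    set s := (σ ⟨q, hL q (by simp)⟩).val with hs
    have hne : ∀ x (hx : x ∈ L), (σ ⟨x, hL x (List.mem_cons_of_mem _ hx)⟩).val ≠ s := by
      intro x hx e
      have := congrArg Fin.val (σ.injective (Fin.ext e))
      exact hnd.1 (by rw [← show x = q from this]; exact hx)
    refine ⟨fun y => if y = s then c * f q else f' y, ?_, fun x hx hfx => ?_⟩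
    · rw [show PF D (q :: L) f = xU D q (f q) * PF D L f by simp [PF],
        show n * (xU D q (f q) * PF D L f) * n⁻¹ =
          (n * xU D q (f q) * n⁻¹) * (n * PF D L f * n⁻¹) by group, hc, he, List.pmap_cons]
      simp only [PF, List.map_cons, List.prod_cons]
      rw [← hs, if_pos rfl]
      refine congrArg (xU D s (c * f q) * ·) (congrArg List.prod (List.map_congr_left fun y hy => ?_))
      obtain ⟨x, hx, rfl⟩ := List.mem_pmap.1 hy
      rw [if_neg (hne x hx)]
    · rcases List.mem_cons.1 hx with rfl | hx'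
      · show (if s = s then c * f x else f' s) ≠ 0
        rw [if_pos rfl]
        exact mul_ne_zero hc0 hfx
      · show (if _ = s then c * f q else f' _) ≠ 0
        rw [if_neg (hne x hx')]
        exact hf' x hx' hfx

omit hA hCh in
/-- A product of fundamental reflections fixing the roots of a weighted sum which is dominant is a
product of reflections orthogonal to them. -/
theorem exists_word_fix {J : Set ℕ} {Ts : List (ℕ × ℤ)} (hT : ∀ p ∈ Ts, p.1 < D.nroots)
    (hout : ∀ i < D.rank, i ∉ J → 0 < (Ts.map fun p => p.2 * D.cartan i p.1).sum)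
    (hin : ∀ i < D.rank, i ∈ J → ∀ p ∈ Ts, D.cartan i p.1 = 0)
    (hdom : ∀ r < D.nroots / 2, (Ts.map fun p => p.2 * prE D r p.1).sum ≤ 0) :
    ∀ (n : ℕ) (l : List (Fin D.rank)), l.length = n →
      (∀ p (hp : p ∈ Ts), sW D l ⟨p.1, hT p hp⟩ = ⟨p.1, hT p hp⟩) →
      ∃ m : List (Fin D.rank), (∀ i ∈ m, i.val ∈ J) ∧ sW D m = sW D l := by
  intro n
  induction n using Nat.strong_induction_on with
  | _ n ih =>
    intro l hl hfix
    rcases List.eq_nil_or_concat l with rfl | ⟨l', i, rfl⟩
    · exact ⟨[], by simp, rfl⟩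
    rw [List.concat_eq_append] at hl hfix ⊢
    simp only [List.length_append, List.length_cons, List.length_nil] at hl
    by_cases hneg : (sW D l' (hF.simpleFin i)).val < D.nroots / 2
    · obtain ⟨a, b, j, rfl, he⟩ := hF.weylHom_deletion l' i hneg
      have hab : sW D (a ++ b) = sW D (a ++ j :: b ++ [i]) := he.symm
      simp only [List.length_append, List.length_cons] at hl
      obtain ⟨m, hm, hm'⟩ := ih (a ++ b).length (by simp only [List.length_append]; omega) (a ++ b) rfl
        (by rw [hab]; exact hfix)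
      exact ⟨m, hm, hm'.trans hab⟩
    · have hi : i.val ∈ J := by
        by_contra e
        set r := sW D (l' ++ [i]) (hF.simpleFin i) with hr
        have hr' : r.val < D.nroots / 2 := by
          rw [hr, sW_append, sW_cons, sW_nil, mul_one, Equiv.Perm.mul_apply, hF.sP_simple, hF.sW_neg]
          have := hF.negFin_pos (sW D l' (hF.simpleFin i))
          omega
        have h2 := hdom r.val hr'
        have e2 : (Ts.map fun p => p.2 * prE D r.val p.1) =
            Ts.map fun p => p.2 * D.cartan i.val p.1 := by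
          refine List.map_congr_left fun p hp => ?_
          have h1 := RootCentralizer.prE_sW hF (l' ++ [i]) (hF.simpleFin i) ⟨p.1, hT p hp⟩
          rw [hfix p hp, ← hr] at h1
          rw [show prE D r.val p.1 = prE D (D.simple i.val) p.1 from h1, hF.prE_simple i.isLt]
        rw [e2] at h2
        have := hout i.val i.isLt e
        omega
      have hsT : ∀ p (hp : p ∈ Ts), sP D i ⟨p.1, hT p hp⟩ = ⟨p.1, hT p hp⟩ := fun p hp => by
        refine Fin.ext ?_
        rw [hF.sP_val]
        refine hF.root_ext (hF.refl_lt i.val i.isLt _ (hT p hp)) (hT p hp) fun j hj => ?_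
        rw [hF.co_refl i.val i.isLt _ (hT p hp) j hj, hin i.val i.isLt hi p hp]
        simp
      have hfix' : ∀ p (hp : p ∈ Ts), sW D l' ⟨p.1, hT p hp⟩ = ⟨p.1, hT p hp⟩ := fun p hp => by
        have := hfix p hp
        rwa [sW_append, sW_cons, sW_nil, mul_one, Equiv.Perm.mul_apply, hsT p hp] at this
      obtain ⟨m, hm, hm'⟩ := ih l'.length (by omega) l' rfl hfix'
      refine ⟨m ++ [i], fun x hx => ?_, by rw [sW_append, sW_append, hm']⟩
      rcases List.mem_append.1 hx with hx | hx
      · exact hm x hx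
      · rw [List.mem_singleton] at hx; rw [hx]; exact hi

omit hA hCh in
/-- A positive root made negative by a word in `J` lies in the span of `J`. -/
theorem inSub_of_flip {J : Set ℕ} {m : List (Fin D.rank)} (hm : ∀ i ∈ m, i.val ∈ J)
    {r : Fin D.nroots} (hr : D.nroots / 2 ≤ r.val) (hneg : (sW D m r).val < D.nroots / 2) :
    InSub D T.co J r.val := by
  intro j hj hjJ
  have hco : ∀ l : List (Fin D.rank), (∀ i ∈ l, i.val ∈ J) →
      T.co (sW D l r).val j = T.co r.val j := by
    intro l hl
    induction l with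
    | nil => rfl
    | cons i l ih =>
      rw [sW_cons, Equiv.Perm.mul_apply, hF.sP_val,
        hF.co_refl i.val i.isLt _ (sW D l r).isLt j hj,
        if_neg (fun e : i.val = j => hjJ (e ▸ hl i (by simp))), sub_zero,
        ih fun x hx => hl x (List.mem_cons_of_mem _ hx)]
  have h1 := hF.co_nonneg r.val r.isLt hr j hj
  have h2 := hF.co_nonpos (sW D m r).isLt hneg hj
  rw [hco m hm] at h2
  omega

omit hA hCh in
/-- The Bruhat parts of an element centralising `v`, for roots spanning a subsystem orthogonal to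
the leading roots of `v`. -/
theorem exists_torus_form (hC : CommF.{v} D) {J : Set ℕ} {R : ℕ → Prop}
    (hRs : ∀ i < D.rank, i ∈ J → R (D.simple i) ∧ R (D.neg (D.simple i)))
    (hRJ : ∀ r < D.nroots, D.nroots / 2 ≤ r → InSub D T.co J r → R r)
    {v : GL D.Idx F} (hle : rootClosure D F R ≤ Subgroup.centralizer {v})
    (hw : ∀ n : GL D.Idx F, ∀ l : List (Fin D.rank), PermAct n (sW D l) →
      (∃ u u1 : GL D.Idx F, ∃ h ∈ D.diagonalSubgroup F,
        u ∈ rootClosure D F (D.nroots / 2 ≤ ·) ∧ u1 ∈ rootClosure D F (D.nroots / 2 ≤ ·) ∧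
        n * (u * v * u⁻¹) * n⁻¹ = h⁻¹ * (u1⁻¹ * v * u1) * h) →
      ∃ m : List (Fin D.rank), (∀ i ∈ m, i.val ∈ J) ∧ sW D m = sW D l)
    {g : GL D.Idx F} (hg : g ∈ D.group F) (hgv : g ∈ Subgroup.centralizer {v}) :
    ∃ u1 ∈ rootClosure D F (D.nroots / 2 ≤ ·), ∃ d ∈ D.diagonalSubgroup F,
      ∃ c ∈ rootClosure D F R, g = u1 * d * c := by
  obtain ⟨b, hb, n, hnm, τ, hτ, u, hu, rfl⟩ := hF.bruhat_exists hC hg
  obtain ⟨u1, hu1, h, hh, rfl⟩ := hF.mem_borel_iff.1 hb
  obtain ⟨l, k, hk, hlk⟩ := hF.exists_nW hnm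
  have hτl : τ = sW D l := by
    have := hF.permAct_mul (hF.permAct_nW (F := F) l) (hF.permAct_diagonal hk)
    rw [mul_one, ← hlk] at this
    exact hF.permAct_unique hτ this
  subst hτl
  have hgv' : u1 * h * n * u * v * (u1 * h * n * u)⁻¹ = v :=
    mul_inv_eq_iff_eq_mul.2 (Subgroup.mem_centralizer_singleton_iff.1 hgv)
  obtain ⟨m, hm, hml⟩ := hw n l hτ ⟨u, u1, h, hh, rootClosure_mono (fun r _ h => h.2.1) hu, hu1,
    by
      calc n * (u * v * u⁻¹) * n⁻¹
          = h⁻¹ * u1⁻¹ * (u1 * h * n * u * v * (u1 * h * n * u)⁻¹) * u1 * h := by group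
        _ = _ := by rw [hgv']; group⟩
  have hwC : nW D F m ∈ rootClosure D F R := by
    refine Subgroup.list_prod_mem _ fun x hx => ?_
    obtain ⟨j, hj, rfl⟩ := List.mem_map.1 hx
    obtain ⟨r1, r2⟩ := hRs j.val j.isLt (hm j hj)
    exact hF.nU_mem (fun a => xU_mem_rootClosure (hF.simple_lt' j.isLt) r1 a)
      (fun a => xU_mem_rootClosure (hF.neg_lt (hF.simple_lt' j.isLt)) r2 a) 1
  have huC : u ∈ rootClosure D F R := by
    refine rootClosure_mono (fun r hr hP => hRJ r hr hP.2.1 ?_) hu
    obtain ⟨hr', hp, hneg⟩ := hP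
    rw [← hml] at hneg
    exact inSub_of_flip hF hm (r := ⟨r, hr⟩) hp hneg
  set d := n * (nW D F m)⁻¹ with hd
  have hdm : d ∈ D.diagonalSubgroup F := by
    refine hF.mem_diagonal_of_permAct (Subgroup.mul_mem _ hnm (Subgroup.inv_mem _ (hF.nW_mem m))) ?_
    have := hF.permAct_mul hτ (hF.permAct_inv (hF.nW_mem m) (hF.permAct_nW (F := F) m))
    rwa [hml, mul_inv_cancel] at this
  refine ⟨u1, hu1, h * d, Subgroup.mul_mem _ hh hdm, nW D F m * u, Subgroup.mul_mem _ hwC huC, ?_⟩
  rw [hd]; group

omit hA hCh in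
/-- A torus element with trivial coordinates outside `J` lies in the subgroup of `J`. -/
theorem hT_mem {J : Set ℕ} {R : ℕ → Prop}
    (hRs : ∀ i < D.rank, i ∈ J → R (D.simple i) ∧ R (D.neg (D.simple i)))
    {c : ℕ → Fˣ} (hc : ∀ i < D.rank, i ∉ J → c i = 1) : hT D c ∈ rootClosure D F R := by
  rw [hF.hT_eq_list]
  refine Subgroup.list_prod_mem _ fun x hx => ?_
  obtain ⟨j, hj, rfl⟩ := List.mem_map.1 hx
  rw [List.mem_range] at hj
  by_cases hjJ : j ∈ J
  · have hn' : ∀ a : F, nU D (D.simple j) a ∈ rootClosure D F R := fun a =>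
      hF.nU_mem (fun z => xU_mem_rootClosure (hF.simple_lt' hj) (hRs j hj hjJ).1 z)
        (fun z => xU_mem_rootClosure (hF.neg_lt (hF.simple_lt' hj)) (hRs j hj hjJ).2 z) a
    exact Subgroup.mul_mem _ (hn' _) (hn' _)
  · rw [hc j hj hjJ, Units.val_one, CfsgLib.Chev.hU, ← hF.nU_inv (hF.simple_lt' hj), mul_inv_cancel]
    exact Subgroup.one_mem _

end

end CfsgLib.Chev.EvenInvol
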